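import Cfsg.Agent.Lib.TwoGen.Setting
import Cfsg.Agent.Lib.SecondMain.Principal
import Cfsg.Agent.Lib.ZStar.SecondPrincipal
import Cfsg.Agent.Lib.CharApp.Schur
import Cfsg.Agent.Lib.PrimeInertial.Fixed
import Cfsg.Agent.Lib.Char.Eigen

/-!
An average over the principal block.

In the setting of `Hyp`, the weighted columns at the members of `omega S` give a probability-like
measure `μ` on the principal block, with trivial character of mass `τ ^ 2` and total `τ`.

* `Hyp.sum_mass_defect` : `∑ μ χ * (1 - χ a / χ 1)` counts the regular products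
* `Hyp.false_of_fix` : nontrivial characters cannot all have small fixed spaces for `a`
-/

set_option autoImplicit false
set_option linter.unusedSectionVars false
set_option linter.style.haveILetI false

open scoped ComplexConjugate

namespace Cfsg.Agent.TwoGen

open Cfsg Blocks Finset
open Subgroup (centralizer zpowers)
open scoped IsMulCommutative

universe u

variable {G : Type u} [Group G] [Finite G] {p : ℕ}

/-- The principal block as a finite set. -/
noncomputable def blk (M : Ideal AlgInt) (G : Type u) [Group G] [Finite G] : Finset (IrrCharacter G) :=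
  (Set.toFinite (principalBlock M G)).toFinset

theorem colSum_blk (M : Ideal AlgInt) (g h : G) :
    SecondMain.colSum (principalBlock M G) g h
      = ∑ χ ∈ blk M G, (χ : G → ℂ) g * conj ((χ : G → ℂ) h) :=
  finsum_mem_eq_finite_toFinset_sum _ _

theorem mem_blk {M : Ideal AlgInt} {χ : IrrCharacter G} : χ ∈ blk M G ↔ χ ∈ principalBlock M G :=
  Set.Finite.mem_toFinset _

/-- The squared length of a column of the principal block. -/
noncomputable def col (M : Ideal AlgInt) (u : G) : ℝ :=
  ∑ χ ∈ blk M G, Complex.normSq ((χ : G → ℂ) u)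

theorem colSum_self (M : Ideal AlgInt) (u : G) :
    SecondMain.colSum (principalBlock M G) u u = (col M u : ℂ) := by
  rw [colSum_blk, col, Complex.ofReal_sum]
  exact sum_congr rfl fun χ _ => Complex.mul_conj _

theorem col_eq_of_isConj (M : Ideal AlgInt) {u v : G} (h : IsConj u v) : col M u = col M v :=
  sum_congr rfl fun χ _ => by rw [classFunction_eq_of_isConj (irr_class χ) h]

/-- A column is the degree square sum seen in the principal block of the centraliser. -/
theorem col_eq_colSum_one {M : Ideal AlgInt} (hM : IsPModular p M) {u : G} (hu : ∃ k, orderOf u = p ^ k)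
    {H : Subgroup G} (hH : ∀ g, g ∈ H ↔ Commute u g) :
    (col M u : ℂ) = SecondMain.colSum (principalBlock M H) 1 1 := by
  have h1 : ¬ p ∣ orderOf (1 : H) := by simpa using hM.1.one_lt.ne'
  have key := SecondMain.colSum_eq_sum (B := principalBlock M G) hM BrauerPairs.isPBlock_principal
    hu hH h1 h1
  rw [SecondMain.inducedSet_principal hM hu hH, finsum_mem_singleton, Subgroup.coe_one, mul_one,
    colSum_self] at key
  exact key

/-- A column is a multiple of the order of any `p`-subgroup centralising the element. -/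
theorem exists_col_eq {M : Ideal AlgInt} (hM : IsPModular p M) {u : G} (hu : ∃ k, orderOf u = p ^ k)
    (T : Subgroup G) (hT : IsPGroup p T) (hTu : T ≤ centralizer ({u} : Set G)) :
    ∃ k : ℕ, 1 ≤ k ∧ col M u = ((Nat.card T * k : ℕ) : ℝ) := by
  classical
  haveI : Fact p.Prime := ⟨hM.1⟩
  set C := centralizer ({u} : Set G) with hC
  have hH : ∀ g, g ∈ C ↔ Commute u g := fun _ => SecondMain.commute_iff_mem_centralizer_singleton
  have h1 : ¬ p ∣ orderOf (1 : C) := by simpa using hM.1.one_lt.ne'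
  have hb : IsPBlock M (principalBlock M C) := BrauerPairs.isPBlock_principal
  have key := col_eq_colSum_one hM hu hH
  rw [colSum_blk] at key
  set T' := T.subgroupOf C with hT'
  have hTp : IsPGroup p T' := hT.comap_subtype
  haveI := Fintype.ofFinite T'
  -- the column at `1` only sees the identity of `T`
  have hsum : ∑ t : T', ∑ η ∈ blk M C, (η : C → ℂ) 1 * conj ((η : C → ℂ) t) = (col M u : ℂ) := by
    rw [Finset.sum_eq_single (1 : T')]
    · rw [key]; simp
    · intro t _ ht
      have hdvd : p ∣ orderOf (t : C) := by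
        obtain ⟨k, hk⟩ := IsPGroup.iff_orderOf.1 hTp t
        rw [Subgroup.orderOf_coe, hk]
        refine dvd_pow_self p fun hk0 => ht ?_
        rwa [hk0, pow_zero, orderOf_eq_one_iff] at hk
      have := weak_orth hM (blockInd_mem_intRing hM hb) h1 hdvd
      rwa [finsum_mem_eq_finite_toFinset_sum _ (Set.toFinite _)] at this
    · simp
  rw [Finset.sum_comm] at hsum
  have hη : ∀ η : IrrCharacter C, ∃ k : ℕ, ∑ t : T', (η : C → ℂ) t = ((Nat.card T' * k : ℕ) : ℂ) := by
    intro η
    obtain ⟨n, ρ, -, hρ⟩ := η.2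
    exact ⟨_, by rw [← hρ, PrimeInertial.sum_character_eq ρ T', Nat.cast_mul]⟩
  choose k hk using hη
  choose d hd using fun η : IrrCharacter C => Char.IsIrrCharacter.exists_degree η.2
  have hcast : ∀ η : IrrCharacter C,
      ∑ t : T', (η : C → ℂ) 1 * conj ((η : C → ℂ) t) = ((Nat.card T' * (d η * k η) : ℕ) : ℂ) := by
    intro η
    rw [← Finset.mul_sum, ← map_sum, hk, Complex.conj_natCast, (hd η).2, ← Nat.cast_mul,
      Nat.mul_left_comm]
  simp only [hcast] at hsum
  rw [← Nat.cast_sum, ← Complex.ofReal_natCast, Complex.ofReal_inj, ← Finset.mul_sum, hT',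
    Cores.card_subgroupOf hTu] at hsum
  refine ⟨_, ?_, hsum.symm⟩
  have hone : BrauerPairs.oneIrr C ∈ blk M C := mem_blk.2 (BrauerPairs.oneIrr_mem_principal hM)
  refine le_trans ?_ (Finset.single_le_sum (fun η _ => Nat.zero_le _) hone)
  have hd1 : d (BrauerPairs.oneIrr C) = 1 := by
    have := ((hd (BrauerPairs.oneIrr C)).2).symm
    simp only [BrauerPairs.oneIrr] at this
    exact_mod_cast this
  have hk1 : k (BrauerPairs.oneIrr C) = 1 := by
    have := hk (BrauerPairs.oneIrr C)
    simp only [BrauerPairs.oneIrr, Finset.sum_const, Finset.card_univ, nsmul_eq_mul, mul_one,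
      ← Nat.card_eq_fintype_card, Nat.cast_mul] at this
    have h2 := mul_left_cancel₀ (Nat.cast_ne_zero.mpr Nat.card_pos.ne') ((mul_one _).trans this)
    exact_mod_cast h2.symm
  rw [hd1, hk1]

/-- A column is at least as long as any `p`-subgroup centralising the element. -/
theorem card_le_col {M : Ideal AlgInt} (hM : IsPModular p M) {u : G} (hu : ∃ k, orderOf u = p ^ k)
    (T : Subgroup G) (hT : IsPGroup p T) (hTu : T ≤ centralizer ({u} : Set G)) :
    (Nat.card T : ℝ) ≤ col M u := by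
  obtain ⟨k, hk, he⟩ := exists_col_eq hM hu T hT hTu
  rw [he]
  exact Nat.cast_le.2 (Nat.le_mul_of_pos_right _ hk)

open scoped Classical in
/-- The nontrivial members of `omega S`. -/
noncomputable def pts (S : Sylow p G) : Finset G :=
  (Set.toFinite {u : G | u ∈ omega S ∧ u ≠ 1}).toFinset

theorem mem_pts {S : Sylow p G} {u : G} : u ∈ pts S ↔ u ∈ omega S ∧ u ≠ 1 :=
  Set.Finite.mem_toFinset _

open scoped Classical in
/-- The fusion of `u` inside `omega S`. -/
noncomputable def fus (S : Sylow p G) (u : G) : Finset G := (pts S).filter (IsConj u)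

open scoped Classical in
theorem fus_eq_of_isConj (S : Sylow p G) {u v : G} (h : IsConj u v) : fus S u = fus S v :=
  filter_congr fun _ _ => ⟨fun hx => h.symm.trans hx, fun hx => h.trans hx⟩

/-- The weight of a member of `omega S`. -/
noncomputable def wt (M : Ideal AlgInt) (S : Sylow p G) (u : G) : ℝ :=
  (col M u * (fus S u).card)⁻¹

/-- The total weight. -/
noncomputable def tau (M : Ideal AlgInt) (S : Sylow p G) : ℝ := ∑ u ∈ pts S, wt M S u

/-- The weighted column. -/
noncomputable def wcol (M : Ideal AlgInt) (S : Sylow p G) (χ : IrrCharacter G) : ℂ :=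
  ∑ u ∈ pts S, (wt M S u : ℂ) * (χ : G → ℂ) u

open scoped Classical in
/-- The number of conjugates `y` of `b` (with repetitions) with `a y` of order prime to `p`. -/
noncomputable def regCount (p : ℕ) [Fintype G] (a b : G) : ℕ :=
  (univ.filter fun g : G => ¬ p ∣ orderOf (a * (g * b * g⁻¹))).card

namespace Hyp

variable [Fact p.Prime] {S : Sylow p G} (h : Hyp G p) {M : Ideal AlgInt} (hM : IsPModular p M)
include h hM

theorem isPow_elt {e : G} (he : Elt S e) : ∃ k, orderOf e = p ^ k := by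
  obtain ⟨k, -, hk⟩ := (Nat.dvd_prime_pow (Fact.out : p.Prime)).1
    ((pow_one p).symm ▸ orderOf_dvd_of_pow_eq_one he.1 : orderOf e ∣ p ^ 1)
  exact ⟨k, hk⟩

theorem col_pos {e : G} (he : Elt S e) : 0 < col M e :=
  lt_of_lt_of_le one_pos (by
    simpa using card_le_col hM (h.isPow_elt hM he) ⊥ IsPGroup.of_bot bot_le)

open scoped Classical in
theorem fus_nonempty {e : G} (he : Elt S e) (he1 : e ≠ 1) : (fus S e).Nonempty := by
  obtain ⟨-, g, hg⟩ := he
  refine ⟨g * e * g⁻¹, ?_⟩
  rw [fus, mem_filter, mem_pts]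
  exact ⟨⟨hg, by rwa [ne_eq, conj_eq_one_iff]⟩, isConj_iff.2 ⟨g, rfl⟩⟩

open scoped Classical in
theorem sum_wt_fus {e : G} (he : Elt S e) (he1 : e ≠ 1) :
    ∑ u ∈ fus S e, wt M S u = (col M e)⁻¹ := by
  have hc : ∀ u ∈ fus S e, wt M S u = (col M e)⁻¹ * ((fus S e).card : ℝ)⁻¹ := fun u hu => by
    have huc : IsConj e u := (mem_filter.1 hu).2
    rw [wt, ← col_eq_of_isConj M huc, ← fus_eq_of_isConj S huc, mul_inv]
  rw [sum_congr rfl hc, sum_const, nsmul_eq_mul, mul_left_comm,
    mul_inv_cancel₀ (Nat.cast_ne_zero.2 (h.fus_nonempty hM he he1).card_pos.ne'), mul_one]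

theorem sum_mul_conj_wcol (g : G) :
    ∑ χ ∈ blk M G, (χ : G → ℂ) g * conj (wcol M S χ)
      = ∑ u ∈ pts S, (wt M S u : ℂ) * SecondMain.colSum (principalBlock M G) g u := by
  simp only [wcol, map_sum, map_mul, Complex.conj_ofReal, colSum_blk, Finset.mul_sum]
  rw [Finset.sum_comm]
  exact sum_congr rfl fun u _ => sum_congr rfl fun χ _ => by ring

theorem sum_wcol_regular {g : G} (hg : ¬ p ∣ orderOf g) :
    ∑ χ ∈ blk M G, (χ : G → ℂ) g * conj (wcol M S χ) = 0 := by
  rw [h.sum_mul_conj_wcol hM g]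
  refine sum_eq_zero fun u hu => ?_
  obtain ⟨huV, hu1⟩ := mem_pts.1 hu
  have hd : p ∣ orderOf u := by rw [orderOf_eq_prime huV.2 hu1]
  rw [SecondMain.colSum, weak_orth hM (blockInd_mem_intRing hM BrauerPairs.isPBlock_principal) hg hd,
    mul_zero]

theorem sum_wcol_elt {e : G} (he : Elt S e) (he1 : e ≠ 1) :
    ∑ χ ∈ blk M G, (χ : G → ℂ) e * conj (wcol M S χ) = 1 := by
  classical
  rw [h.sum_mul_conj_wcol hM e]
  have h1 : ∀ u ∈ pts S, (wt M S u : ℂ) * SecondMain.colSum (principalBlock M G) e u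
      = if IsConj e u then ((wt M S u * col M e : ℝ) : ℂ) else 0 := by
    intro u hu
    obtain ⟨huV, hu1⟩ := mem_pts.1 hu
    split_ifs with hc
    · rw [Complex.ofReal_mul, ← colSum_self, colSum_blk, colSum_blk]
      congr 1
      exact sum_congr rfl fun χ _ => by rw [classFunction_eq_of_isConj (irr_class χ) hc]
    · have := SecondMain.colSum_eq_zero (B := principalBlock M G) hM BrauerPairs.isPBlock_principal
        (x := e) (y := 1) (x' := u) (y' := 1) (h.isPow_elt hM he) (h.isPow_elt hM (h.elt_of_mem huV))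
        (by simpa using hM.1.one_lt.ne') (by simpa using hM.1.one_lt.ne') (Commute.one_right e)
        (Commute.one_right u) hc
      rw [mul_one, mul_one] at this
      rw [this, mul_zero]
  rw [sum_congr rfl h1, ← sum_filter, ← Complex.ofReal_sum, ← Finset.sum_mul]
  show ((((∑ u ∈ fus S e, wt M S u) * col M e : ℝ)) : ℂ) = 1
  rw [h.sum_wt_fus hM he he1, inv_mul_cancel₀ (h.col_pos hM he).ne', Complex.ofReal_one]

/-- A product of two members is invisible or looks like a member. -/
theorem sum_wcol_product {a y : G} (ha : Elt S a) (hy : Elt S y) (hd : p ∣ orderOf (a * y)) :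
    ∑ χ ∈ blk M G, (χ : G → ℂ) (a * y) * conj (wcol M S χ) = 1 := by
  rcases h.product_cases ha hy with hn | ⟨e, c, k, he, he1, hc, hk⟩
  · exact absurd hd hn
  rw [← h.sum_wcol_elt hM he he1]
  refine sum_congr rfl fun χ hχ => ?_
  congr 1
  rw [classFunction_eq_of_isConj (irr_class χ) (isConj_iff.2 ⟨k, hk⟩)]
  refine ZStar.apply_mul_eq hM (h.isPow_elt hM he) (rp p (centralizer ({e} : Set G))) (not_dvd_rp _)
    (fun o ho => ?_) (fun g hg o ho => ?_) hc (mem_blk.1 hχ)
  · exact (Subgroup.mem_centralizer_iff.1 (rp_le _ ho) e rfl).symm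
  · refine (Subgroup.mem_normalizer_iff.1 (le_normalizer_rp (centralizer ({e} : Set G)) ?_) o).1 ho
    exact Subgroup.mem_centralizer_iff.2 fun w hw => by rw [Set.mem_singleton_iff.1 hw]; exact hg.symm.eq

theorem sum_normSq_wcol : ∑ χ ∈ blk M G, Complex.normSq (wcol M S χ) = tau M S := by
  apply Complex.ofReal_injective
  rw [Complex.ofReal_sum]
  calc ∑ χ ∈ blk M G, (Complex.normSq (wcol M S χ) : ℂ)
      = ∑ χ ∈ blk M G, ∑ u ∈ pts S, (wt M S u : ℂ) * ((χ : G → ℂ) u * conj (wcol M S χ)) :=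
        sum_congr rfl fun χ _ => by
          rw [← Complex.mul_conj, wcol, Finset.sum_mul]
          exact sum_congr rfl fun u _ => mul_assoc _ _ _
    _ = ∑ u ∈ pts S, (wt M S u : ℂ) := by
        rw [Finset.sum_comm]
        refine sum_congr rfl fun u hu => ?_
        rw [← Finset.mul_sum, h.sum_wcol_elt hM (h.elt_of_mem (mem_pts.1 hu).1) (mem_pts.1 hu).2,
          mul_one]
    _ = (tau M S : ℂ) := by rw [tau, Complex.ofReal_sum]

theorem wcol_one : wcol M S (BrauerPairs.oneIrr G) = (tau M S : ℂ) := by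
  simp [wcol, tau, BrauerPairs.oneIrr]

/-- Class algebra turns the weighted character ratio into a count of regular products. -/
theorem sum_mass_defect [Fintype G] {a : G} (ha : Elt S a) :
    ∑ χ ∈ blk M G, Complex.normSq (wcol M S χ) * (1 - ((χ : G → ℂ) a).re / ((χ : G → ℂ) 1).re)
      = ∑ b ∈ pts S, wt M S b * ((regCount p a b : ℝ) / Nat.card G) := by
  classical
  have hG : (Nat.card G : ℂ) ≠ 0 := card_ne_zero_C
  have hχ : ∀ χ : IrrCharacter G, ∀ b : G, (χ : G → ℂ) b * ((χ : G → ℂ) a / (χ : G → ℂ) 1)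
      = (Nat.card G : ℂ)⁻¹ * ∑ g : G, (χ : G → ℂ) (a * (g * b * g⁻¹)) := by
    intro χ b
    obtain ⟨n, ρ, hirr, hρ⟩ := χ.2
    have h1 := CharApp.sum_char_conj_mul ρ b a
    have hn : (Module.finrank ℂ (Fin n → ℂ) : ℂ) = (χ : G → ℂ) 1 := by
      rw [← hρ, Representation.char_one]
    rw [hρ, hn] at h1
    rw [sum_congr rfl (fun g _ => isClassFunction_comm (irr_class χ) a (g * b * g⁻¹)), h1]
    field_simp
  have hb : ∀ b ∈ pts S, ∑ χ ∈ blk M G,
      ((χ : G → ℂ) b * ((χ : G → ℂ) a / (χ : G → ℂ) 1)) * conj (wcol M S χ)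
      = ((1 - (regCount p a b : ℝ) / Nat.card G : ℝ) : ℂ) := by
    intro b hb
    have hval : ∀ g : G, ∑ χ ∈ blk M G, (χ : G → ℂ) (a * (g * b * g⁻¹)) * conj (wcol M S χ)
        = 1 - (if ¬ p ∣ orderOf (a * (g * b * g⁻¹)) then 1 else 0) := by
      intro g
      split_ifs with hd
      · rw [h.sum_wcol_product hM ha (h.elt_conj (h.elt_of_mem (mem_pts.1 hb).1) g) hd, sub_zero]
      · rw [h.sum_wcol_regular hM hd, sub_self]
    rw [sum_congr rfl fun (χ : IrrCharacter G) _ => show ((χ : G → ℂ) b * ((χ : G → ℂ) a / (χ : G → ℂ) 1)) *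
        conj (wcol M S χ) = (Nat.card G : ℂ)⁻¹ *
          ∑ g : G, (χ : G → ℂ) (a * (g * b * g⁻¹)) * conj (wcol M S χ) by
        rw [hχ, mul_assoc, Finset.sum_mul], ← Finset.mul_sum]
    rw [Finset.sum_comm, sum_congr rfl (fun g _ => hval g), sum_sub_distrib, sum_boole, sum_const,
      card_univ, nsmul_eq_mul, mul_one, ← Nat.card_eq_fintype_card]
    show _ * ((Nat.card G : ℂ) - (regCount p a b : ℂ)) = _
    push_cast
    field_simp
  have htot : ∑ χ ∈ blk M G, (Complex.normSq (wcol M S χ) : ℂ) * ((χ : G → ℂ) a / (χ : G → ℂ) 1)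
      = ((∑ b ∈ pts S, wt M S b * (1 - (regCount p a b : ℝ) / Nat.card G) : ℝ) : ℂ) := by
    rw [Complex.ofReal_sum]
    calc _ = ∑ χ ∈ blk M G, ∑ b ∈ pts S, (wt M S b : ℂ) *
          (((χ : G → ℂ) b * ((χ : G → ℂ) a / (χ : G → ℂ) 1)) * conj (wcol M S χ)) :=
          sum_congr rfl fun χ _ => by
            rw [← Complex.mul_conj, mul_right_comm, wcol, Finset.sum_mul, Finset.sum_mul]
            exact sum_congr rfl fun u _ => by ring
      _ = _ := by
          rw [Finset.sum_comm]
          refine sum_congr rfl fun b hb' => ?_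
          rw [← Finset.mul_sum, hb b hb', ← Complex.ofReal_mul]
  have hre : ∀ χ : IrrCharacter G, ((Complex.normSq (wcol M S χ) : ℂ) *
      ((χ : G → ℂ) a / (χ : G → ℂ) 1)).re
      = Complex.normSq (wcol M S χ) * (((χ : G → ℂ) a).re / ((χ : G → ℂ) 1).re) := by
    intro χ
    obtain ⟨d, -, hd⟩ := Char.IsIrrCharacter.exists_degree χ.2
    rw [hd, Complex.re_ofReal_mul, Complex.div_natCast_re, Complex.natCast_re]
  have h2 := congrArg Complex.re htot
  rw [Complex.re_sum, Complex.ofReal_re] at h2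
  simp only [hre] at h2
  simp only [mul_sub, mul_one, sum_sub_distrib, h.sum_normSq_wcol hM, h2]
  rw [tau]
  ring

theorem regCount_le [Fintype G] {a b : G} : (regCount p a b : ℝ) / Nat.card G ≤ 1 := by
  rw [div_le_one (by exact_mod_cast Nat.card_pos), Nat.cast_le, Nat.card_eq_fintype_card]
  exact card_le_univ _

theorem isConj_of_regCount [Fintype G] {a b : G} (ha : Elt S a) (hb : Elt S b)
    (hne : regCount p a b ≠ 0) : IsConj a⁻¹ b := by
  obtain ⟨g, hg⟩ := Finset.card_ne_zero.1 hne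
  have hg' := (mem_filter.1 hg).2
  obtain ⟨d, hd, hz⟩ := h.exists_partner ha (h.elt_conj hb g)
  have h1 := (h.not_dvd_iff ha (h.elt_conj hb g) hd hz).1 hg'
  refine (isConj_iff.2 ⟨d * g, ?_⟩).symm
  rw [← (mul_eq_one_iff_inv_eq.1 h1).symm]
  group

theorem sum_regCount_le [Fintype G] {a b : G} (ha : Elt S a) (hb : Elt S b) (hb1 : b ≠ 1) :
    ∑ j ∈ range p, regCount p (a ^ j) b ≤ Nat.card G := by
  classical
  rw [Nat.card_eq_fintype_card]
  simp only [regCount]
  rw [← card_biUnion]
  · exact card_le_univ _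
  intro i hi j hj hij
  refine Finset.disjoint_left.2 fun g hgi hgj => hij ?_
  set y := g * b * g⁻¹ with hy
  have hy1 : y ≠ 1 := by rwa [hy, ne_eq, conj_eq_one_iff]
  have hyE : Elt S y := h.elt_conj hb g
  have key : ∀ k : ℕ, k < p → ¬ p ∣ orderOf (a ^ k * y) → ¬ p ∣ orderOf (y * a ^ k) ∧ ¬ p ∣ k := by
    intro k hk hreg
    refine ⟨?_, fun hdvd => ?_⟩
    · have : orderOf (y * a ^ k) = orderOf (a ^ k * y) := by
        rw [show y * a ^ k = (MulAut.conj y) (a ^ k * y) by simp [mul_assoc]]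
        exact MulEquiv.orderOf_eq _ _
      rwa [this]
    · rw [Nat.eq_zero_of_dvd_of_lt hdvd hk, pow_zero, one_mul, orderOf_eq_prime hyE.1 hy1] at hreg
      exact hreg dvd_rfl
  obtain ⟨hi1, hi2⟩ := key i (mem_range.1 hi) (mem_filter.1 hgi).2
  obtain ⟨hj1, hj2⟩ := key j (mem_range.1 hj) (mem_filter.1 hgj).2
  have ha1 : a ≠ 1 := by
    rintro rfl
    rw [one_pow, mul_one, orderOf_eq_prime hyE.1 hy1] at hi1
    exact hi1 dvd_rfl
  exact (h.eq_of_not_dvd hyE ha hi2 hj2 hi1 hj1 ha1).eq_of_lt_of_lt (mem_range.1 hi) (mem_range.1 hj)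

theorem card_le_col_mul_fus {u : G} (hu : u ∈ pts S) :
    (Nat.card (S : Subgroup G) : ℝ) ≤ col M u * (fus S u).card := by
  classical
  haveI := Fintype.ofFinite (S : Subgroup G)
  obtain ⟨huV, hu1⟩ := mem_pts.1 hu
  set T := (S : Subgroup G) ⊓ centralizer ({u} : Set G) with hT
  have h1 : (univ : Finset (S : Subgroup G)).card ≤ Nat.card T * (fus S u).card := by
    refine (card_le_mul_card_image _ (Nat.card T) fun v hv => ?_).trans
      (Nat.mul_le_mul_left _ (card_le_card (?_ :
        univ.image (fun s : (S : Subgroup G) => (s : G) * u * (s : G)⁻¹) ⊆ fus S u)))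
    · obtain ⟨s₀, -, hs₀⟩ := mem_image.1 hv
      haveI := Fintype.ofFinite T
      rw [Nat.card_eq_fintype_card, ← card_univ]
      refine card_le_card_of_injOn (fun s => if hs : (s₀ : G)⁻¹ * s ∈ T then ⟨_, hs⟩ else 1)
        (fun _ _ => mem_univ _) ?_
      intro s hs t ht hst
      have hmem : ∀ s ∈ univ.filter (fun s : (S : Subgroup G) => (s : G) * u * (s : G)⁻¹ = v),
          (s₀ : G)⁻¹ * s ∈ T := by
        intro s hs
        refine ⟨(S : Subgroup G).mul_mem ((S : Subgroup G).inv_mem s₀.2) s.2, Subgroup.mem_centralizer_iff.2 fun w hw => ?_⟩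
        rw [Set.mem_singleton_iff.1 hw]
        have := (mem_filter.1 hs).2.trans hs₀.symm
        rw [mul_inv_eq_iff_eq_mul] at this
        rw [mul_assoc, this]
        group
      simp only [dif_pos (hmem s hs), dif_pos (hmem t ht), Subtype.mk.injEq, mul_right_inj] at hst
      exact Subtype.ext hst
    · intro v hv
      obtain ⟨s, -, rfl⟩ := mem_image.1 hv
      refine mem_filter.2 ⟨mem_pts.2 ⟨?_, by rwa [ne_eq, conj_eq_one_iff]⟩, isConj_iff.2 ⟨s, rfl⟩⟩
      exact h.mem_omega (h.elt_conj (h.elt_of_mem huV) _)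
        ((S : Subgroup G).mul_mem ((S : Subgroup G).mul_mem s.2 (omega_le S huV)) ((S : Subgroup G).inv_mem s.2))
  rw [card_univ, ← Nat.card_eq_fintype_card] at h1
  refine (Nat.cast_le.2 h1).trans ?_
  rw [Nat.cast_mul]
  refine mul_le_mul_of_nonneg_right ?_ (Nat.cast_nonneg _)
  exact card_le_col hM (h.isPow_elt hM (h.elt_of_mem huV)) T (S.2.to_le inf_le_left) inf_le_right

/-- If `omega S = S`, every member is fused to another one. -/
theorem two_le_fus (hVS : omega S = (S : Subgroup G)) {u : G} (hu : u ∈ pts S) :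
    2 ≤ (fus S u).card := by
  classical
  by_contra hlt
  obtain ⟨huV, hu1⟩ := mem_pts.1 hu
  have hmem : u ∈ fus S u := mem_filter.2 ⟨hu, IsConj.refl u⟩
  have huniq : ∀ g : G, g * u * g⁻¹ ∈ (S : Subgroup G) → g * u * g⁻¹ = u := fun g hg =>
    card_le_one.1 (Nat.le_of_lt_succ (not_le.1 hlt)) _ (mem_filter.2 ⟨mem_pts.2 ⟨hVS.ge hg, by rwa [ne_eq, conj_eq_one_iff]⟩,
      isConj_iff.2 ⟨g, rfl⟩⟩) _ hmem
  haveI : IsMulCommutative (S : Subgroup G) :=
    ⟨⟨fun a b => Subtype.ext (omega_commute S (hVS.ge a.2) (hVS.ge b.2))⟩⟩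
  have key : ∀ (k : ℕ) (g₀ : G), g₀⁻¹ * u ^ k * g₀ ∈ (S : Subgroup G) →
      g₀⁻¹ * u ^ k * g₀ = u ^ k := by
    intro k g₀ hk
    by_cases hpk : p ∣ k
    · obtain ⟨c, rfl⟩ := hpk
      rw [pow_mul, huV.2, one_pow]
      group
    have hco : (orderOf u).Coprime k := by
      rw [orderOf_eq_prime huV.2 hu1]
      exact (Fact.out : p.Prime).coprime_iff_not_dvd.2 hpk
    obtain ⟨m, hm⟩ := exists_pow_eq_self_of_coprime (x := u) hco.symm
    have h1 : g₀⁻¹ * u * g₀ ∈ (S : Subgroup G) := by
      have := (S : Subgroup G).pow_mem hk m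
      have e := conj_pow (i := m) (a := g₀⁻¹) (b := u ^ k)
      rw [inv_inv] at e
      rwa [e, hm] at this
    have h2 := huniq g₀⁻¹ (by rwa [inv_inv])
    have e := conj_pow (i := k) (a := g₀⁻¹) (b := u)
    rw [h2] at e
    rw [inv_inv] at e
    exact e.symm
  set ψ := MonoidHom.transfer (MonoidHom.id (S : Subgroup G))
  have hψ : ψ.ker = ⊤ := by
    haveI := h.simple
    refine (IsSimpleGroup.eq_bot_or_eq_top_of_normal ψ.ker inferInstance).resolve_left fun hb => ?_
    obtain ⟨x, y, hxy⟩ := h.nonab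
    refine hxy ((MonoidHom.ker_eq_bot_iff ψ).1 hb ?_)
    rw [map_mul, map_mul, mul_comm]
  have hu' : ψ u = 1 := MonoidHom.mem_ker.1 (hψ.ge (Subgroup.mem_top u))
  rw [MonoidHom.transfer_eq_pow _ u key] at hu'
  have hpow : u ^ (S : Subgroup G).index = 1 := congrArg Subtype.val hu'
  have hdvd := orderOf_dvd_of_pow_eq_one hpow
  rw [orderOf_eq_prime huV.2 hu1] at hdvd
  exact Sylow.not_dvd_index S hdvd

/-- The number of regular products, weighted and summed over the powers of `a`. -/
noncomputable def _root_.Cfsg.Agent.TwoGen.count (p : ℕ) [Fintype G] (M : Ideal AlgInt) (S : Sylow p G)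
    (a : G) : ℝ :=
  ∑ j ∈ range p, ∑ b ∈ pts S, wt M S b * ((regCount p (a ^ j) b : ℝ) / Nat.card G)

theorem wt_pos {b : G} (hb : b ∈ pts S) : 0 < wt M S b :=
  inv_pos.2 (mul_pos (h.col_pos hM (h.elt_of_mem (mem_pts.1 hb).1))
    (Nat.cast_pos.2 (h.fus_nonempty hM (h.elt_of_mem (mem_pts.1 hb).1) (mem_pts.1 hb).2).card_pos))

theorem count_le [Fintype G] {a : G} (ha : Elt S a) : count p M S a ≤ tau M S := by
  rw [count, tau, Finset.sum_comm]
  refine sum_le_sum fun b hb => ?_
  rw [← Finset.mul_sum, ← Finset.sum_div, ← Nat.cast_sum]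
  refine mul_le_of_le_one_right (h.wt_pos hM hb).le ?_
  rw [div_le_one (by exact_mod_cast Nat.card_pos), Nat.cast_le]
  exact h.sum_regCount_le hM ha (h.elt_of_mem (mem_pts.1 hb).1) (mem_pts.1 hb).2

/-- The average, for any uniform bound on the fixed spaces of `a`. -/
theorem mul_lt_count [Fintype G] {a : G} (ha : Elt S a) (hne : (pts S).Nonempty) {m : ℝ}
    (hfix : ∀ χ ∈ blk M G, χ ≠ BrauerPairs.oneIrr G →
      ∑ j ∈ range p, ((χ : G → ℂ) (a ^ j)).re < m * ((χ : G → ℂ) 1).re)
    (hτ1 : tau M S < 1) : ((p : ℝ) - m) * (tau M S - tau M S ^ 2) < count p M S a := by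
  classical
  have hkey : ∑ χ ∈ blk M G, Complex.normSq (wcol M S χ) *
      ((p : ℝ) - (∑ j ∈ range p, ((χ : G → ℂ) (a ^ j)).re) / ((χ : G → ℂ) 1).re) = count p M S a := by
    rw [count, ← sum_congr rfl (fun j _ => h.sum_mass_defect hM (h.elt_pow ha j)), Finset.sum_comm]
    refine sum_congr rfl fun χ _ => ?_
    rw [← Finset.mul_sum, sum_sub_distrib, sum_const, card_range, nsmul_eq_mul, mul_one,
      ← Finset.sum_div]
  have hone : BrauerPairs.oneIrr G ∈ blk M G := mem_blk.2 (BrauerPairs.oneIrr_mem_principal hM)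
  have hmass : ∑ χ ∈ (blk M G).erase (BrauerPairs.oneIrr G), Complex.normSq (wcol M S χ)
      = tau M S - tau M S ^ 2 := by
    rw [sum_erase_eq_sub hone, h.sum_normSq_wcol hM, h.wcol_one hM, Complex.normSq_ofReal, pow_two]
  rw [← hkey, ← Finset.add_sum_erase _ _ hone, ← hmass, Finset.mul_sum]
  have h0 : Complex.normSq (wcol M S (BrauerPairs.oneIrr G)) * ((p : ℝ) -
      (∑ j ∈ range p, (((BrauerPairs.oneIrr G : IrrCharacter G) : G → ℂ) (a ^ j)).re) /
        (((BrauerPairs.oneIrr G : IrrCharacter G) : G → ℂ) 1).re) = 0 := by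
    simp [BrauerPairs.oneIrr]
  rw [h0, zero_add]
  have hlt : ∀ χ ∈ (blk M G).erase (BrauerPairs.oneIrr G),
      (p : ℝ) - m < (p : ℝ) - (∑ j ∈ range p, ((χ : G → ℂ) (a ^ j)).re) / ((χ : G → ℂ) 1).re := by
    intro χ hχ
    obtain ⟨d, hd0, hd⟩ := Char.IsIrrCharacter.exists_degree χ.2
    have hdeg : 0 < ((χ : G → ℂ) 1).re := by rw [hd, Complex.natCast_re]; exact Nat.cast_pos.2 hd0
    exact sub_lt_sub_left ((div_lt_iff₀ hdeg).2 (hfix χ (mem_erase.1 hχ).2 (mem_erase.1 hχ).1)) _
  obtain ⟨χ, hχ, hne'⟩ : ∃ χ ∈ (blk M G).erase (BrauerPairs.oneIrr G),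
      0 < Complex.normSq (wcol M S χ) := by
    by_contra hno
    push_neg at hno
    have h1 := hmass.symm.le.trans (sum_nonpos hno)
    have h2 : 0 < tau M S := sum_pos (fun b hb => h.wt_pos hM hb) hne
    nlinarith
  exact sum_lt_sum (fun ξ hξ => by
      rw [mul_comm]; exact mul_le_mul_of_nonneg_left (hlt ξ hξ).le (Complex.normSq_nonneg _))
    ⟨χ, hχ, by rw [mul_comm]; exact mul_lt_mul_of_pos_left (hlt χ hχ) hne'⟩

theorem count_mul_card_le [Fintype G] {a : G} (ha : a ∈ omega S) (ha1 : a ≠ 1) :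
    count p M S a * Nat.card (omega S) ≤ (p : ℝ) - 1 := by
  classical
  have hN : (0 : ℝ) < Nat.card (omega S) := by exact_mod_cast Nat.card_pos
  have haE : Elt S a := h.elt_of_mem ha
  have hterm : ∀ j ∈ range p, ∑ b ∈ pts S, wt M S b * ((regCount p (a ^ j) b : ℝ) / Nat.card G)
      ≤ if j = 0 then 0 else (Nat.card (omega S) : ℝ)⁻¹ := by
    intro j hj
    split_ifs with hj0
    · refine le_of_eq (sum_eq_zero fun b hb => ?_)
      subst hj0
      have : regCount p (a ^ 0) b = 0 := by
        rw [regCount, card_eq_zero, filter_eq_empty_iff]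
        intro g _ hreg
        rw [pow_zero, one_mul, orderOf_eq_prime (h.elt_conj (h.elt_of_mem (mem_pts.1 hb).1) g).1
          (by rw [ne_eq, conj_eq_one_iff]; exact (mem_pts.1 hb).2)] at hreg
        exact hreg dvd_rfl
      rw [this, Nat.cast_zero, zero_div, mul_zero]
    · set e := (a ^ j)⁻¹ with he
      have heV : e ∈ omega S := inv_mem (pow_mem ha j)
      have heE : Elt S e := h.elt_of_mem heV
      have he1 : e ≠ 1 := inv_ne_one.2 (pow_ne_one_of_lt_orderOf hj0
        (by rw [orderOf_eq_prime ha.2 ha1]; exact mem_range.1 hj))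
      calc _ ≤ ∑ b ∈ fus S e, wt M S b := by
            rw [fus, sum_filter]
            refine sum_le_sum fun b hb => ?_
            by_cases hc : IsConj e b
            · rw [if_pos hc]
              exact mul_le_of_le_one_right (h.wt_pos hM hb).le (h.regCount_le hM)
            · rw [if_neg hc]
              have : regCount p (a ^ j) b = 0 := by
                by_contra h0
                exact hc (h.isConj_of_regCount hM (h.elt_pow haE j)
                  (h.elt_of_mem (mem_pts.1 hb).1) h0)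
              rw [this, Nat.cast_zero, zero_div, mul_zero]
        _ = (col M e)⁻¹ := h.sum_wt_fus hM heE he1
        _ ≤ (Nat.card (omega S) : ℝ)⁻¹ := inv_anti₀ hN (card_le_col hM (h.isPow_elt hM heE) (omega S)
            (S.2.to_le (omega_le S)) fun x hx => Subgroup.mem_centralizer_iff.2 fun w hw => by
              rw [Set.mem_singleton_iff.1 hw]; exact omega_commute S heV hx)
  have h4 := sum_le_sum hterm
  rw [sum_ite, sum_const_zero, zero_add, sum_const, nsmul_eq_mul, filter_ne' (range p) 0,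
    card_erase_of_mem (mem_range.2 (Fact.out : p.Prime).pos), card_range,
    Nat.cast_sub (Fact.out : p.Prime).one_le, Nat.cast_one] at h4
  have h5 := mul_le_mul_of_nonneg_right h4 hN.le
  rwa [mul_assoc, inv_mul_cancel₀ hN.ne', mul_one] at h5

theorem exists_pts (hS : (S : Subgroup G) ≠ ⊥) : (pts S).Nonempty := by
  obtain ⟨⟨z, hz⟩, hz1⟩ := (Subgroup.ne_bot_iff_exists_ne_one).1
    (GWKlein.centerThompsonAOf_ne_bot S.2 hS)
  obtain ⟨k, hk⟩ := S.2 ⟨z, PStab.centerThompsonAOf_le _ hz⟩
  have hpd : p ∣ orderOf (z : G) := by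
    obtain ⟨j, -, hj⟩ := (Nat.dvd_prime_pow (Fact.out : p.Prime)).1
      (orderOf_dvd_of_pow_eq_one (congrArg Subtype.val hk : (z : G) ^ p ^ k = 1))
    rw [hj]
    exact dvd_pow_self p fun h0 => hz1 (Subtype.ext (orderOf_eq_one_iff.1 (by rw [hj, h0, pow_zero])))
  refine ⟨(z : G) ^ (orderOf (z : G) / p), mem_pts.2 ⟨⟨pow_mem hz _, ?_⟩, ?_⟩⟩
  · rw [← pow_mul, Nat.div_mul_cancel hpd, pow_orderOf_eq_one]
  · exact pow_ne_one_of_lt_orderOf (Nat.div_pos (Nat.le_of_dvd (orderOf_pos _) hpd)
      (Fact.out : p.Prime).pos).ne' (Nat.div_lt_self (orderOf_pos _) (Fact.out : p.Prime).one_lt)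

/-- Nontrivial characters of the principal block cannot all have small fixed spaces for `a`. -/
theorem false_of_fix (hS : (S : Subgroup G) ≠ ⊥)
    (hfix : ∀ a : G, Elt S a → a ≠ 1 → ∀ χ : IrrCharacter G, χ ≠ BrauerPairs.oneIrr G →
      ∃ d g f : ℕ, (χ : G → ℂ) 1 = d ∧ ∑ j ∈ range p, ((χ : G → ℂ) (a ^ j)).re = p * f ∧
        2 * g ≤ d ∧ 2 * f < d + g) : False := by
  classical
  haveI := Fintype.ofFinite G
  have hp5n : 5 ≤ p := by
    have h3 := h.three_lt
    have h4 : p ≠ 4 := fun h4 => by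
      have h5 : Nat.Prime 4 := h4 ▸ (Fact.out : p.Prime)
      norm_num at h5
    omega
  have hp5 : (5 : ℝ) ≤ p := by exact_mod_cast hp5n
  obtain ⟨a, ha'⟩ := h.exists_pts hM hS
  obtain ⟨ha, ha1⟩ := mem_pts.1 ha'
  have hpts : (pts S).Nonempty := ⟨a, ha'⟩
  set V := omega S with hV
  set τ := tau M S with hτ
  have hτ0 : 0 < τ := sum_pos (fun b hb => h.wt_pos hM hb) hpts
  have hcardV : ((pts S).card : ℝ) = Nat.card V - 1 := by
    haveI := Fintype.ofFinite V
    have h1 : pts S = (univ.filter fun v : V => v ≠ 1).map ⟨_, Subtype.val_injective⟩ := by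
      ext x
      simp only [mem_pts, mem_map, mem_filter, mem_univ, true_and, Function.Embedding.coeFn_mk,
        Subtype.exists, ne_eq, Subgroup.mk_eq_one, exists_and_left, exists_prop, exists_eq_right_right]
      tauto
    rw [h1, card_map, filter_ne' univ (1 : V), card_erase_of_mem (mem_univ _), card_univ,
      ← Nat.card_eq_fintype_card, Nat.cast_sub Nat.card_pos, Nat.cast_one]
  have hbound : ∀ b ∈ pts S, ∀ χ ∈ blk M G, χ ≠ BrauerPairs.oneIrr G →
      ∑ j ∈ range p, ((χ : G → ℂ) (b ^ j)).re < 3 * (p : ℝ) / 4 * ((χ : G → ℂ) 1).re := by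
    intro b hb χ _ hne
    obtain ⟨d, g, f, hd, hf, hg, hfg⟩ := hfix b (h.elt_of_mem (mem_pts.1 hb).1) (mem_pts.1 hb).2 χ hne
    rw [hf, hd, Complex.natCast_re]
    have h4 : ((4 * f : ℕ) : ℝ) < ((3 * d : ℕ) : ℝ) := Nat.cast_lt.2 (by omega)
    push_cast at h4
    nlinarith
  have hR1 : count p M S a ≤ τ := h.count_le hM (h.elt_of_mem ha)
  have hLHS : τ < 1 → (p : ℝ) / 4 * (τ - τ ^ 2) < count p M S a := fun h1 => by
    have := h.mul_lt_count hM (h.elt_of_mem ha) hpts (hbound a ha') h1
    rwa [show (p : ℝ) - 3 * p / 4 = p / 4 by ring] at this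
  have hSpos : (0 : ℝ) < Nat.card (S : Subgroup G) := by exact_mod_cast Nat.card_pos
  by_cases hVS : V = (S : Subgroup G)
  · -- abelian Sylow
    have hN : (0 : ℝ) < Nat.card V := by exact_mod_cast Nat.card_pos
    have hcent : ∀ b ∈ pts S, V ≤ centralizer ({b} : Set G) := fun b hb x hx =>
      Subgroup.mem_centralizer_iff.2 fun w hw => by
        rw [Set.mem_singleton_iff.1 hw]; exact omega_commute S (mem_pts.1 hb).1 hx
    have hwt2 : ∀ b ∈ pts S, wt M S b ≤ (2 * col M b)⁻¹ := fun b hb => by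
      refine inv_anti₀ (mul_pos two_pos (h.col_pos hM (h.elt_of_mem (mem_pts.1 hb).1))) ?_
      rw [mul_comm (2 : ℝ)]
      exact mul_le_mul_of_nonneg_left (by exact_mod_cast h.two_le_fus hM hVS hb)
        (h.col_pos hM (h.elt_of_mem (mem_pts.1 hb).1)).le
    have hcolV : ∀ b ∈ pts S, (Nat.card V : ℝ) ≤ col M b := fun b hb =>
      card_le_col hM (h.isPow_elt hM (h.elt_of_mem (mem_pts.1 hb).1)) V (S.2.to_le (omega_le S))
        (hcent b hb)
    have hτ2 : 2 * (Nat.card V : ℝ) * τ ≤ (Nat.card V : ℝ) - 1 := by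
      rw [hτ, tau, Finset.mul_sum, ← hcardV]
      refine (sum_le_card_nsmul _ _ 1 fun b hb => ?_).trans (by rw [nsmul_eq_mul, mul_one])
      refine (mul_le_mul_of_nonneg_left (hwt2 b hb) (by positivity)).trans ?_
      rw [← div_eq_mul_inv, div_le_one (mul_pos two_pos (hN.trans_le (hcolV b hb)))]
      linarith [hcolV b hb]
    obtain ⟨n, hn⟩ := IsPGroup.iff_card.1 (S.2.to_le (omega_le S) : IsPGroup p V)
    have hn0 : n ≠ 0 := fun h0 => by
      rw [h0, pow_zero, Subgroup.card_eq_one] at hn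
      exact ha1 (Subgroup.mem_bot.1 (hn ▸ ha))
    have hτhalf : τ < 1 / 2 := by nlinarith
    have h1 := hLHS (by linarith)
    have h3 : (p : ℝ) * (1 - τ) < 4 := by nlinarith
    have hp8 : p < 8 := by
      have : (p : ℝ) < 8 := by nlinarith
      exact_mod_cast this
    rcases Nat.lt_or_ge n 2 with hn1 | hn2
    · obtain rfl : n = 1 := by omega
      rw [pow_one] at hn
      rw [hn] at hτ2
      obtain rfl : p = 5 := by
        rcases (show p = 5 ∨ p = 6 ∨ p = 7 by omega) with h5 | h6 | h7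
        · exact h5
        · exact absurd (h6 ▸ (Fact.out : p.Prime)) (by norm_num)
        · subst h7
          push_cast at hτ2 h3
          nlinarith
      push_cast at hτ2 h3
      -- a member with shortest possible column
      obtain ⟨b, hb, hb10⟩ : ∃ b ∈ pts S, col M b < 10 := by
        by_contra hno
        push_neg at hno
        have h6 : τ ≤ ((pts S).card : ℝ) * (20 : ℝ)⁻¹ := by
          rw [hτ, tau]
          refine (sum_le_card_nsmul _ _ ((20 : ℝ)⁻¹) fun b hb => (hwt2 b hb).trans ?_).trans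
            (by rw [nsmul_eq_mul])
          exact inv_anti₀ (by norm_num) (by linarith [hno b hb])
        rw [hcardV, hn] at h6
        push_cast at h6
        nlinarith
      have hbE : Elt S b := h.elt_of_mem (mem_pts.1 hb).1
      obtain ⟨k, hk1, hk⟩ := exists_col_eq hM (h.isPow_elt hM hbE) V (S.2.to_le (omega_le S))
        (hcent b hb)
      have hb5 : col M b = 5 := by
        have : k < 2 := by
          rw [hk, hn] at hb10
          have h7 : (5 * k : ℕ) < 10 := by exact_mod_cast hb10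
          omega
        rw [hk, hn, show k = 1 by omega]
        norm_num
      have hpow : ∀ j ∈ (range 5).erase 0, col M (b ^ j) = 5 := by
        intro j hj
        rw [← hb5]
        apply Complex.ofReal_injective
        have hH : ∀ g, g ∈ centralizer ({b} : Set G) ↔ Commute b g :=
          fun _ => SecondMain.commute_iff_mem_centralizer_singleton
        have hord : orderOf b = 5 := orderOf_eq_prime hbE.1 (mem_pts.1 hb).2
        obtain ⟨i, hi⟩ := exists_pow_eq_self_of_coprime (x := b) (n := j) (by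
          rw [hord]
          refine ((Fact.out : Nat.Prime 5).coprime_iff_not_dvd.2 fun hdv => ?_).symm
          exact (mem_erase.1 hj).1 (Nat.eq_zero_of_dvd_of_lt hdv (mem_range.1 (mem_erase.1 hj).2)))
        rw [col_eq_colSum_one hM (h.isPow_elt hM (h.elt_pow hbE j)) (H := centralizer ({b} : Set G))
          (fun g => (hH g).trans ⟨fun hc => hc.pow_left j, fun hc => hi ▸ hc.pow_left i⟩),
          col_eq_colSum_one hM (h.isPow_elt hM hbE) hH]
      have hfix5 : ∀ χ ∈ blk M G, χ ≠ BrauerPairs.oneIrr G →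
          ∑ j ∈ range 5, ((χ : G → ℂ) (b ^ j)).re < 10 / 3 * ((χ : G → ℂ) 1).re := by
        intro χ hχ hne
        obtain ⟨d, g, f, hd, hf, hg, hfg⟩ := hfix b hbE (mem_pts.1 hb).2 χ hne
        have h2 : ∀ j ∈ (range 5).erase 0, ((χ : G → ℂ) (b ^ j)).re ≤ 2 := by
          intro j hj
          have hone : BrauerPairs.oneIrr G ∈ blk M G := mem_blk.2 (BrauerPairs.oneIrr_mem_principal hM)
          have h8 := hpow j hj
          rw [col, ← Finset.add_sum_erase _ _ hone] at h8
          have h9 := Finset.single_le_sum (f := fun ξ : IrrCharacter G => Complex.normSq ((ξ : G → ℂ) (b ^ j)))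
            (fun ξ _ => Complex.normSq_nonneg _) (mem_erase.2 ⟨hne, hχ⟩)
          simp only [BrauerPairs.oneIrr, map_one] at h8 h9
          have h10 : ((χ : G → ℂ) (b ^ j)).re * ((χ : G → ℂ) (b ^ j)).re ≤ 4 := by
            have := Complex.re_sq_le_normSq ((χ : G → ℂ) (b ^ j))
            linarith
          nlinarith
        have h11 : 5 * f ≤ d + 8 := by
          have h12 : ∑ j ∈ range 5, ((χ : G → ℂ) (b ^ j)).re ≤ (d : ℝ) + 8 := by
            rw [← Finset.add_sum_erase _ _ (mem_range.2 (by norm_num : 0 < 5)), pow_zero, hd,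
              Complex.natCast_re]
            refine add_le_add le_rfl ((sum_le_card_nsmul _ _ _ h2).trans ?_)
            rw [card_erase_of_mem (mem_range.2 (by norm_num : 0 < 5)), card_range]
            norm_num
          rw [hf] at h12
          exact_mod_cast h12
        rw [hf, hd, Complex.natCast_re]
        have h13 : ((3 * f : ℕ) : ℝ) < ((2 * d : ℕ) : ℝ) := Nat.cast_lt.2 (by omega)
        push_cast at h13 ⊢
        linarith
      have h14 := h.mul_lt_count hM hbE hpts hfix5 (by linarith)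
      have h15 := h.count_le hM hbE
      push_cast at h14
      nlinarith
    · have hsq : (p : ℝ) ^ 2 ≤ Nat.card V := by
        rw [hn, Nat.cast_pow]
        exact pow_le_pow_right₀ (by linarith) hn2
      have hR2 := h.count_mul_card_le hM ha ha1
      have hτlow : (1 : ℝ) / 5 ≤ τ := by nlinarith
      have hR0 : count p M S a < 1 / 5 := by nlinarith
      have h6 : (4 : ℝ) / 25 ≤ τ - τ ^ 2 := by nlinarith
      nlinarith
  · -- `omega S` is proper in `S`
    have hlt : (p : ℝ) * Nat.card V ≤ Nat.card (S : Subgroup G) := by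
      obtain ⟨k, hk⟩ := IsPGroup.iff_card.1 (S.2.to_le (omega_le S) : IsPGroup p V)
      obtain ⟨l, hl⟩ := IsPGroup.iff_card.1 S.2
      have hkl : k < l := (Nat.pow_lt_pow_iff_right (Fact.out : p.Prime).one_lt).1 (by
        rw [← hk, ← hl]
        exact lt_of_le_of_ne (Subgroup.card_le_of_le (omega_le S)) fun he =>
          hVS (Subgroup.eq_of_le_of_card_ge (omega_le S) he.ge))
      rw [hk, hl]
      push_cast
      rw [← pow_succ']
      exact pow_le_pow_right₀ (by linarith) hkl
    have hτle : τ * Nat.card (S : Subgroup G) ≤ (Nat.card V : ℝ) - 1 := by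
      rw [hτ, tau, Finset.sum_mul, ← hcardV]
      refine (sum_le_card_nsmul _ _ 1 fun b hb => ?_).trans (by rw [nsmul_eq_mul, mul_one])
      rw [← div_inv_eq_mul, div_le_one (inv_pos.2 hSpos)]
      exact inv_anti₀ hSpos (h.card_le_col_mul_fus hM hb)
    have hτp : (p : ℝ) * τ < 1 := by nlinarith
    have h1 := hLHS (by nlinarith)
    nlinarith

end Hyp

end Cfsg.Agent.TwoGen
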