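import Cfsg.Agent.Lib.CharApp.CoprimeFixed
import Cfsg.Agent.Lib.CharApp.Schur
import Cfsg.Agent.Lib.CharApp.Unitary
import Cfsg.Agent.Lib.Char.Brauer
import Cfsg.Agent.Lib.Char.ClassMult
import Cfsg.Agent.Lib.Coprime.Invariant
import Cfsg.Agent.Lib.Cores.Basic

/-!
An element of order `p ≥ 5` acting on a solvable `p'`-group `K = [K, a]` has a fixed space of
less than half the dimension on a complex module without fixed points of `K`.

* `restrict_irr_of_support` : a restriction to a normal subgroup with abelian quotient stays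
  irreducible if the support generates
* `fixBound` : the bound for irreducible characters of `K⟨a⟩`
* `two_mul_fix_le`, `two_mul_fix_lt` : the bound for a character of an overgroup
-/

set_option autoImplicit false
set_option linter.unusedSectionVars false
set_option linter.style.haveILetI false

open scoped ComplexConjugate commutatorElement

namespace Cfsg.Agent.TwoGen

open Cfsg Cfsg.Agent.Char Cfsg.Agent.CharApp Finset
open Subgroup (zpowers)

universe u

section support

variable {Γ : Type u} [Group Γ] [Finite Γ] (N : Subgroup Γ) [N.Normal]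

theorem restrict_irr_of_support (hab : ∀ x y : Γ, x * y * x⁻¹ * y⁻¹ ∈ N) {χ : Γ → ℂ}
    (hχ : IsIrrCharacter Γ χ) (hsup : N ⊔ Subgroup.closure {g | χ g ≠ 0} = ⊤) :
    IsIrrCharacter N (fun n : N => χ n) := by
  classical
  haveI := Fintype.ofFinite Γ
  haveI := Fintype.ofFinite N
  haveI := Fintype.ofFinite (IrrCharacter Γ)
  have hχc := IsIrrCharacter.isCharacter hχ
  rw [isIrrCharacter_iff_norm_one (IsCharacter.restrict hχc N)]
  have hind : indFun N (fun n : N => χ n) = indFun N (1 : N → ℂ) * χ := by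
    rw [indFun_mul N (1 : N → ℂ) (IsIrrCharacter.isClassFunction hχ), one_mul]
  rw [← frobenius_reciprocity N _ (IsIrrCharacter.isClassFunction hχ), hind, indFun_one_eq_sum N,
    Finset.sum_mul, classInner_sum_left]
  let one : IrrCharacter Γ := ⟨1, isIrrCharacter_one⟩
  have hone : one ∈ univ.filter (fun β : IrrCharacter Γ => TrivOn N (β : Γ → ℂ)) :=
    mem_filter.2 ⟨mem_univ _, fun n => rfl⟩
  rw [Finset.sum_eq_single_of_mem one hone]
  · simp only [one, Pi.one_apply, one_smul, one_mul]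
    exact classInner_irr_self hχ
  intro β hβ hne
  have ht : TrivOn N (β : Γ → ℂ) := (mem_filter.1 hβ).2
  have hd := degree_one_of_trivOn N hab β.2 ht
  obtain ⟨l, hl⟩ := exists_hom_of_degree_one (IsIrrCharacter.isCharacter β.2) hd
  rw [hd, one_smul]
  have hirr : IsIrrCharacter Γ ((β : Γ → ℂ) * χ) := by
    rw [mul_comm, ← hl]; exact IsIrrCharacter.mul_linear hχ l
  refine classInner_irr_of_ne hirr hχ fun he => hne (Subtype.ext ?_)
  let L : Subgroup Γ :=
    { carrier := {g | l g = 1}
      one_mem' := map_one l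
      mul_mem' := fun {x y} hx hy => by
        show l (x * y) = 1
        rw [map_mul, show l x = 1 from hx, show l y = 1 from hy, one_mul]
      inv_mem' := fun {x} hx => by
        show l x⁻¹ = 1
        have := map_mul l x⁻¹ x
        rwa [inv_mul_cancel, map_one, show l x = 1 from hx, mul_one, eq_comm] at this }
  have hle : (⊤ : Subgroup Γ) ≤ L := hsup ▸ sup_le (fun n hn => by
      show l n = 1
      rw [hl, ht ⟨n, hn⟩, hd]) ((Subgroup.closure_le L).2 fun g hg => by
      show l g = 1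
      have := congrFun he g
      rw [Pi.mul_apply, ← hl] at this
      exact (mul_eq_right₀ hg).1 this)
  funext g
  rw [← hl]
  exact hle (Subgroup.mem_top g)

end support

/-- The bound for irreducible characters of `K⟨a⟩` with `|K| = n`. -/
def FixBound (p : ℕ) (n : ℕ) : Prop :=
  ∀ (Γ : Type u) [Group Γ] [Finite Γ] (K : Subgroup Γ) [K.Normal] (a : Γ),
    Nat.card K = n → a ^ p = 1 → K ⊔ zpowers a = ⊤ → ¬ p ∣ Nat.card K → Group.IsSolvable K →
    ⁅K, zpowers a⁆ = K → ∀ χ : Γ → ℂ, IsIrrCharacter Γ χ → ¬ TrivOn K χ →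
    2 * ∑ j ∈ range p, (χ (a ^ j)).re < p * (χ 1).re

variable {G : Type u} [Group G] [Finite G] {p : ℕ}

/-- The bound for a character of an overgroup, given the bound for the irreducible ones. -/
theorem fix_le_aux [Fact p.Prime] (K : Subgroup G) [Fintype K] (hirr : FixBound.{u} p (Nat.card K)) {a : G}
    (ha : a ^ p = 1) (hn : a ∈ Subgroup.normalizer (K : Set G)) (hK : ¬ p ∣ Nat.card K)
    (hsol : Group.IsSolvable K) (hKa : ⁅K, zpowers a⁆ = K) {χ : G → ℂ} (hχ : IsCharacter G χ) :
    2 * (Nat.card K : ℝ) * ∑ j ∈ range p, (χ (a ^ j)).re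
        ≤ p * ((Nat.card K : ℝ) * (χ 1).re + ∑ x : K, (χ x).re) ∧
      (∑ x : K, (χ x).re < (Nat.card K : ℝ) * (χ 1).re →
        2 * (Nat.card K : ℝ) * ∑ j ∈ range p, (χ (a ^ j)).re
          < p * ((Nat.card K : ℝ) * (χ 1).re + ∑ x : K, (χ x).re)) := by
  classical
  set X := K ⊔ zpowers a with hX
  have haX : a ∈ X := Subgroup.mem_sup_right (Subgroup.mem_zpowers a)
  have hXn : X ≤ Subgroup.normalizer (K : Set G) :=
    sup_le Subgroup.le_normalizer (Subgroup.zpowers_le.2 hn)
  haveI : (K.subgroupOf X).Normal := (Subgroup.normal_subgroupOf_iff_le_normalizer le_sup_left).2 hXn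
  set K' := K.subgroupOf X with hK'
  set a' : X := ⟨a, haX⟩ with ha'
  haveI := Fintype.ofFinite X
  haveI := Fintype.ofFinite K'
  haveI := Fintype.ofFinite (IrrCharacter X)
  have ecard : Nat.card K' = Nat.card K := Cores.card_subgroupOf le_sup_left
  have hz : (zpowers a).subgroupOf X = zpowers a' := by
    refine Subgroup.map_injective X.subtype_injective ?_
    rw [Subgroup.map_subgroupOf_eq_of_le le_sup_right, MonoidHom.map_zpowers]
    rfl
  have hKa' : ⁅K', zpowers a'⁆ = K' := by
    refine Subgroup.map_injective X.subtype_injective ?_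
    rw [Subgroup.map_commutator, hK', Subgroup.map_subgroupOf_eq_of_le le_sup_left,
      MonoidHom.map_zpowers]
    exact hKa
  haveI : Group.IsSolvable K' :=
    Group.isSolvable_of_isSolvable_injective (f := (Subgroup.subgroupOfEquivOfLe (le_sup_left : K ≤ X)).toMonoidHom) (Subgroup.subgroupOfEquivOfLe (le_sup_left : K ≤ X)).injective
  have hgen : K' ⊔ zpowers a' = ⊤ := by
    rw [← hz, hK', ← Subgroup.subgroupOf_sup le_sup_left le_sup_right, Subgroup.subgroupOf_self]
  have key : ∀ ψ : IrrCharacter X,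
      2 * (Nat.card K : ℝ) * ∑ j ∈ range p, ((ψ : X → ℂ) (a' ^ j)).re
        ≤ p * ((Nat.card K : ℝ) * ((ψ : X → ℂ) 1).re + ∑ x : K', ((ψ : X → ℂ) x).re) ∧
      (∑ x : K', ((ψ : X → ℂ) x).re < (Nat.card K : ℝ) * ((ψ : X → ℂ) 1).re →
        2 * (Nat.card K : ℝ) * ∑ j ∈ range p, ((ψ : X → ℂ) (a' ^ j)).re
        < p * ((Nat.card K : ℝ) * ((ψ : X → ℂ) 1).re + ∑ x : K', ((ψ : X → ℂ) x).re)) := by
    intro ψ
    by_cases ht : TrivOn K' (ψ : X → ℂ)
    · have h1 : ∑ x : K', ((ψ : X → ℂ) x).re = (Nat.card K : ℝ) * ((ψ : X → ℂ) 1).re := by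
        rw [sum_congr rfl fun x _ => by rw [ht x], sum_const, card_univ, nsmul_eq_mul,
          ← Nat.card_eq_fintype_card, ecard]
      refine ⟨?_, fun hlt => absurd h1 hlt.ne⟩
      have h2 : ∑ j ∈ range p, ((ψ : X → ℂ) (a' ^ j)).re ≤ p * ((ψ : X → ℂ) 1).re := by
        refine (sum_le_card_nsmul _ _ _ fun j _ => ?_).trans (by rw [card_range, nsmul_eq_mul])
        exact (Complex.re_le_norm _).trans (IsCharacter.norm_le (IsIrrCharacter.isCharacter ψ.2) _)
      rw [h1]
      have h3 := mul_le_mul_of_nonneg_left h2 (Nat.cast_nonneg (α := ℝ) (Nat.card K))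
      linarith
    · have h0 : classInner (fun x : K' => (ψ : X → ℂ) x) 1 = 0 := by
        by_contra h
        exact ht (trivOn_of_constituent_one K' ψ.2 h)
      have h1 : ∑ x : K', ((ψ : X → ℂ) x).re = 0 := by
        simp only [classInner, Pi.one_apply, map_one, mul_one, mul_eq_zero, inv_eq_zero,
          Nat.cast_eq_zero, Nat.card_pos.ne', false_or] at h0
        rw [← Complex.re_sum, h0, Complex.zero_re]
      have h2 := hirr X K' a' ecard (Subtype.ext ha) hgen (by rwa [ecard]) inferInstance hKa' ψ ψ.2 ht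
      have h3 : 2 * (Nat.card K : ℝ) * ∑ j ∈ range p, ((ψ : X → ℂ) (a' ^ j)).re
          < p * ((Nat.card K : ℝ) * ((ψ : X → ℂ) 1).re + 0) := by
        have h4 := mul_lt_mul_of_pos_left h2
          (Nat.cast_pos.2 Nat.card_pos : (0 : ℝ) < Nat.card K)
        linarith
      rw [h1]
      exact ⟨h3.le, fun _ => h3⟩
  obtain ⟨c, hc, -⟩ := IsCharacter.decompose (IsCharacter.restrict hχ X)
  have hdec : ∀ x : X, (χ x).re = ∑ ψ : IrrCharacter X, (c ψ : ℝ) * ((ψ : X → ℂ) x).re := by
    intro x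
    have := congrArg Complex.re (congrFun hc x)
    simp only [Finset.sum_apply, Pi.smul_apply, smul_eq_mul, Complex.re_sum] at this
    rw [this]
    exact sum_congr rfl fun ψ _ => by simp [Complex.mul_re]
  have hA : ∀ j : ℕ, (χ (a ^ j)).re = ∑ ψ : IrrCharacter X, (c ψ : ℝ) * ((ψ : X → ℂ) (a' ^ j)).re :=
    fun j => by simpa using hdec (a' ^ j)
  have h1' : (χ 1).re = ∑ ψ : IrrCharacter X, (c ψ : ℝ) * ((ψ : X → ℂ) 1).re := by
    simpa using hdec 1
  have hB : ∑ x : K, (χ x).re = ∑ ψ : IrrCharacter X, (c ψ : ℝ) * ∑ x : K', ((ψ : X → ℂ) x).re := by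
    have e : ∑ x : K, (χ x).re = ∑ x : K', (χ ((x : X) : G)).re :=
      (Fintype.sum_equiv (Subgroup.subgroupOfEquivOfLe (le_sup_left : K ≤ X)).toEquiv
        (fun x : K' => (χ ((x : X) : G)).re) (fun x : K => (χ x).re) fun x => rfl).symm
    rw [e, sum_congr rfl fun (x : K') _ => hdec (x : X), Finset.sum_comm]
    exact sum_congr rfl fun ψ _ => (mul_sum _ _ _).symm
  have eL : 2 * (Nat.card K : ℝ) * ∑ j ∈ range p, (χ (a ^ j)).re = ∑ ψ : IrrCharacter X,
      (c ψ : ℝ) * (2 * (Nat.card K : ℝ) * ∑ j ∈ range p, ((ψ : X → ℂ) (a' ^ j)).re) := by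
    rw [sum_congr rfl fun j _ => hA j, Finset.sum_comm, mul_sum]
    exact sum_congr rfl fun ψ _ => by rw [← mul_sum]; ring
  have eR : (p : ℝ) * ((Nat.card K : ℝ) * (χ 1).re + ∑ x : K, (χ x).re) = ∑ ψ : IrrCharacter X,
      (c ψ : ℝ) * (p * ((Nat.card K : ℝ) * ((ψ : X → ℂ) 1).re + ∑ x : K', ((ψ : X → ℂ) x).re)) := by
    rw [h1', hB, mul_sum, ← sum_add_distrib, mul_sum]
    exact sum_congr rfl fun ψ _ => by ring
  refine ⟨?_, fun hlt => ?_⟩
  · rw [eL, eR]
    exact sum_le_sum fun ψ _ => mul_le_mul_of_nonneg_left (key ψ).1 (Nat.cast_nonneg _)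
  · obtain ⟨ψ, -, hψ⟩ : ∃ ψ ∈ (univ : Finset (IrrCharacter X)),
        (c ψ : ℝ) * ∑ x : K', ((ψ : X → ℂ) x).re
          < (c ψ : ℝ) * ((Nat.card K : ℝ) * ((ψ : X → ℂ) 1).re) := by
      refine exists_lt_of_sum_lt ?_
      rw [← hB]
      refine hlt.trans_le (le_of_eq ?_)
      rw [h1', mul_sum]
      exact sum_congr rfl fun ψ _ => by ring
    have hc0 : 0 < (c ψ : ℝ) := lt_of_le_of_ne (Nat.cast_nonneg _) fun h0 => by
      rw [← h0, zero_mul, zero_mul] at hψ; exact lt_irrefl _ hψ
    rw [eL, eR]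
    exact sum_lt_sum (fun ψ _ => mul_le_mul_of_nonneg_left (key ψ).1 (Nat.cast_nonneg _))
      ⟨ψ, mem_univ _, mul_lt_mul_of_pos_left ((key ψ).2 (lt_of_mul_lt_mul_left hψ hc0.le)) hc0⟩

/-- A subgroup between `⁅K, K⁆` and `K` normalised by `a` is normal in `K⟨a⟩`. -/
theorem normal_of_between {Γ : Type u} [Group Γ] {K L : Subgroup Γ} {a : Γ} (hgen : K ⊔ zpowers a = ⊤)
    (hL : L ≤ K) (hd : ⁅K, K⁆ ≤ L) (ha : a ∈ Subgroup.normalizer (L : Set Γ)) : L.Normal := by
  refine Subgroup.normalizer_eq_top_iff.1 (top_le_iff.1 (hgen ▸ sup_le (fun k hk => ?_)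
    (Subgroup.zpowers_le.2 ha)))
  have h : ∀ g ∈ K, ∀ x ∈ L, g * x * g⁻¹ ∈ L := fun g hg x hx => by
    rw [show g * x * g⁻¹ = ⁅g, x⁆ * x by rw [commutatorElement_def]; group]
    exact L.mul_mem (hd (Subgroup.commutator_mem_commutator hg (hL hx))) hx
  refine Subgroup.mem_normalizer_iff.2 fun x => ⟨h k hk x, fun hx => ?_⟩
  have := h k⁻¹ (K.inv_mem hk) _ hx
  rwa [show k⁻¹ * (k * x * k⁻¹) * k⁻¹⁻¹ = x by group] at this

theorem commute_of_pow {H : Type*} [Group H] [Fact p.Prime] {a x : H} (ha : a ^ p = 1) {j : ℕ}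
    (hj : ¬ p ∣ j) (h : Commute (a ^ j) x) : Commute a x := by
  by_cases ha1 : a = 1
  · rw [ha1]; exact Commute.one_left x
  have hord : orderOf a = p := orderOf_eq_prime ha ha1
  obtain ⟨m, hm⟩ := exists_pow_eq_self_of_coprime (x := a) (n := j)
    (by rw [hord]; exact ((Fact.out : p.Prime).coprime_iff_not_dvd.2 hj).symm)
  rw [← hm]
  exact h.pow_left m

theorem fixBound [hp : Fact p.Prime] (hp5 : 5 ≤ p) : ∀ n : ℕ, FixBound.{u} p n := by
  intro n
  induction n using Nat.strong_induction_on with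
  | _ n ih =>
  intro Γ _ _ K _ a hcard ha hgen hKp hsol hKa χ hχ hnt
  classical
  haveI := Fintype.ofFinite Γ
  haveI := Fintype.ofFinite K
  have hχc := IsIrrCharacter.isCharacter hχ
  obtain ⟨d, hd0, hd⟩ := IsIrrCharacter.exists_degree hχ
  obtain ⟨N, ρ, hirr, hρ⟩ := hχ
  haveI := hirr
  have hχ : IsIrrCharacter Γ χ := ⟨N, ρ, hirr, hρ⟩
  have hp0 : 0 < p := hp.out.pos
  have hdR : (0 : ℝ) < d := Nat.cast_pos.2 hd0
  have hN : (Module.finrank ℂ (Fin N → ℂ) : ℂ) = d := by rw [← hd, ← hρ, Representation.char_one]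
  have hsplit : ∑ j ∈ range p, (χ (a ^ j)).re = (d : ℝ) + ∑ j ∈ (range p).erase 0, (χ (a ^ j)).re := by
    rw [← add_sum_erase (range p) (fun j => (χ (a ^ j)).re) (mem_range.2 hp0), pow_zero, hd,
      Complex.natCast_re]
  rw [hsplit, hd, Complex.natCast_re]
  have hp5' : (5 : ℝ) ≤ p := by exact_mod_cast hp5
  have ha1 : a ≠ 1 := by
    rintro rfl
    rw [Subgroup.zpowers_one_eq_bot, Subgroup.commutator_bot_right] at hKa
    refine hnt fun x => ?_
    rw [show (x : Γ) = 1 from Subgroup.mem_bot.1 (hKa.symm ▸ x.2)]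
  have hord : orderOf a = p := orderOf_eq_prime ha ha1
  have hmeet : ∀ j : ℕ, a ^ j ∈ K → a ^ j = 1 := by
    intro j hj
    refine orderOf_eq_one_iff.1 (Nat.eq_one_of_dvd_coprimes
      ((hp.out.coprime_iff_not_dvd.2 hKp)) (hord ▸ orderOf_pow_dvd j) ?_)
    rw [← Subgroup.orderOf_mk _ hj]
    exact orderOf_dvd_natCard _
  have hjK : ∀ j ∈ (range p).erase 0, a ^ j ∉ K := fun j hj h => by
    obtain ⟨hj0, hjp⟩ := mem_erase.1 hj
    exact pow_ne_one_of_lt_orderOf hj0 (hord.symm ▸ mem_range.1 hjp) (hmeet j h)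
  -- the reducible case
  have habK : ∀ x y : Γ, x * y * x⁻¹ * y⁻¹ ∈ K := by
    have h1 : ∀ x : Γ, ∃ i : ℤ, (QuotientGroup.mk x : Γ ⧸ K) = (QuotientGroup.mk a : Γ ⧸ K) ^ i := by
      intro x
      obtain ⟨k, hk, y, hy, rfl⟩ := Subgroup.mem_sup_of_normal_left.1 (hgen.ge (Subgroup.mem_top x))
      obtain ⟨i, rfl⟩ := Subgroup.mem_zpowers_iff.1 hy
      exact ⟨i, by rw [QuotientGroup.mk_mul, (QuotientGroup.eq_one_iff k).2 hk, one_mul,
        QuotientGroup.mk_zpow]⟩
    intro x y
    obtain ⟨i, hi⟩ := h1 x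
    obtain ⟨j, hj⟩ := h1 y
    rw [← QuotientGroup.eq_one_iff, QuotientGroup.mk_mul, QuotientGroup.mk_mul, QuotientGroup.mk_mul,
      QuotientGroup.mk_inv, QuotientGroup.mk_inv, hi, hj, ← zpow_add, ← zpow_neg, ← zpow_add,
      ← zpow_neg, ← zpow_add, show i + j + -i + -j = 0 by ring, zpow_zero]
  by_cases hsupK : K ⊔ Subgroup.closure {g | χ g ≠ 0} = ⊤
  swap
  · have h0 : ∀ j ∈ (range p).erase 0, (χ (a ^ j)).re = 0 := by
      intro j hj
      by_contra h0
      refine hsupK (top_le_iff.1 ?_)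
      conv_lhs => rw [← hgen]
      refine sup_le le_sup_left (Subgroup.zpowers_le.2 (Subgroup.mem_sup_right ?_))
      obtain ⟨m, hm⟩ := exists_pow_eq_self_of_coprime (x := a) (n := j) (by
        rw [hord]
        exact (hp.out.coprime_iff_not_dvd.2 fun hdv => (mem_erase.1 hj).1
          (Nat.eq_zero_of_dvd_of_lt hdv (mem_range.1 (mem_erase.1 hj).2))).symm)
      rw [← hm]
      refine pow_mem (Subgroup.subset_closure ?_) m
      exact fun h1 => h0 (by rw [h1, Complex.zero_re])
    rw [sum_eq_zero h0, add_zero]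
    nlinarith
  have hθ : IsIrrCharacter K (fun k : K => χ k) := restrict_irr_of_support K habK hχ hsupK
  have hnormK : ∑ k : K, Complex.normSq (χ k) = (Nat.card K : ℝ) := by
    obtain ⟨m, σ, hσ, hσρ⟩ := hθ
    haveI := hσ
    have := CharApp.sum_normSq_eq_card σ
    rwa [hσρ] at this
  -- a maximal invariant subgroup over the derived subgroup
  haveI := hsol
  have hKne : K ≠ ⊥ := by
    rintro rfl
    exact hnt fun x => by rw [show (x : Γ) = 1 from Subgroup.mem_bot.1 x.2]
  have hder : ⁅K, K⁆ < K := by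
    haveI : Nontrivial K := (Subgroup.nontrivial_iff_ne_bot K).2 hKne
    rw [← Subgroup.map_subtype_commutator]
    refine lt_of_le_of_ne (Subgroup.map_subtype_le _) fun he => ?_
    refine (Group.IsSolvable.commutator_lt_top_of_nontrivial K).ne
      (Subgroup.map_injective K.subtype_injective ?_)
    rw [he, ← MonoidHom.range_eq_map, Subgroup.range_subtype]
  set S : Set (Subgroup Γ) := {L | L < K ∧ ⁅K, K⁆ ≤ L ∧ L.Normal} with hS
  obtain ⟨M, -, hMS⟩ := (Set.toFinite S).exists_le_maximal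
    (show ⁅K, K⁆ ∈ S from ⟨hder, le_rfl, inferInstance⟩)
  obtain ⟨⟨hMK, hMd, hMn⟩, hMmax⟩ := hMS
  haveI := hMn
  haveI := Fintype.ofFinite M
  have hdich : ∀ L : Subgroup Γ, M ≤ L → L ≤ K → L.Normal → L = K ∨ L = M := by
    intro L hML hLK hLn
    by_cases h : L = K
    · exact Or.inl h
    · exact Or.inr (le_antisymm (hMmax ⟨lt_of_le_of_ne hLK h, hMd.trans hML, hLn⟩ hML) hML)
  set f := QuotientGroup.mk' M with hf
  have hfc : ∀ x ∈ K, ∀ y ∈ K, Commute (f x) (f y) := fun x hx y hy => by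
    show f x * f y = f y * f x
    rw [← map_mul, ← map_mul]
    refine (QuotientGroup.eq.2 ?_)
    rw [show (x * y)⁻¹ * (y * x) = ⁅y⁻¹, x⁻¹⁆ from by rw [commutatorElement_def]; group]
    exact inv_inv (⁅y⁻¹, x⁻¹⁆) ▸ M.inv_mem (M.inv_mem (hMd
      (Subgroup.commutator_mem_commutator (K.inv_mem hy) (K.inv_mem hx))))
  -- no fixed points in the top section
  have hfpf : ∀ x ∈ K, Commute (f a) (f x) → x ∈ M := by
    set L : Subgroup Γ := K ⊓ (Subgroup.centralizer ({f a} : Set (Γ ⧸ M))).comap f with hL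
    have hLn : L.Normal := by
      refine normal_of_between hgen inf_le_left ?_ ?_
      · intro x hx
        refine ⟨hder.le hx, Subgroup.mem_centralizer_iff.2 fun w _ => ?_⟩
        rw [show f x = 1 from (QuotientGroup.eq_one_iff x).2 (hMd hx), one_mul, mul_one]
      · refine Subgroup.mem_normalizer_iff.2 fun x => ?_
        have hc : ∀ z : Γ ⧸ M, z ∈ Subgroup.centralizer ({f a} : Set (Γ ⧸ M)) ↔ f a * z = z * f a :=
          fun z => ⟨fun h => Subgroup.mem_centralizer_iff.1 h _ rfl, fun h =>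
            Subgroup.mem_centralizer_iff.2 fun w hw => by rw [Set.mem_singleton_iff.1 hw]; exact h⟩
        simp only [hL, Subgroup.mem_inf, Subgroup.mem_comap, hc, map_mul, map_inv]
        refine and_congr ⟨fun h => (inferInstance : K.Normal).conj_mem x h a, fun h => ?_⟩ ?_
        · have := (inferInstance : K.Normal).conj_mem _ h a⁻¹
          rwa [show a⁻¹ * (a * x * a⁻¹) * a⁻¹⁻¹ = x by group] at this
        · constructor
          · intro h
            rw [h, mul_inv_cancel_right, h]
          · intro h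
            have h2 : f a * (f a * f x * (f a)⁻¹) * (f a)⁻¹ = f a * f x * (f a)⁻¹ := by
              rw [h, mul_inv_cancel_right]
            have h3 : f a * f x * (f a)⁻¹ = f x := mul_left_cancel (mul_right_cancel h2)
            exact mul_inv_eq_iff_eq_mul.1 h3
    have hML : M ≤ L := fun x hx => ⟨hMK.le hx, Subgroup.mem_centralizer_iff.2 fun w _ => by
      rw [show f x = 1 from (QuotientGroup.eq_one_iff x).2 hx, one_mul, mul_one]⟩
    rcases hdich L hML inf_le_left hLn with h | h
    · exfalso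
      refine hMK.ne (le_antisymm hMK.le ?_)
      rw [← hKa, Subgroup.commutator_le]
      intro x hx y hy
      obtain ⟨i, rfl⟩ := Subgroup.mem_zpowers_iff.1 hy
      rw [← QuotientGroup.eq_one_iff]
      show f ⁅x, a ^ i⁆ = 1
      rw [map_commutatorElement, commutatorElement_eq_one_iff_commute, map_zpow]
      exact (show Commute (f a) (f x) from
        Subgroup.mem_centralizer_iff.1 (h.ge hx).2 _ rfl).symm.zpow_right i
    · intro x hx hc
      exact h.le ⟨hx, Subgroup.mem_centralizer_iff.2 fun w hw => by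
        rw [Set.mem_singleton_iff.1 hw]; exact hc⟩
  -- `χ` restricted to `M`
  by_cases hMsup : M.subgroupOf K ⊔ Subgroup.closure {k : K | χ k ≠ 0} = ⊤
  · -- irreducible on `M`: induction
    haveI : (M.subgroupOf K).Normal := Subgroup.normal_subgroupOf
    have hφ' := restrict_irr_of_support (M.subgroupOf K) (fun x y => by
      rw [Subgroup.mem_subgroupOf]
      exact hMd (Subgroup.commutator_mem_commutator x.2 y.2)) hθ hMsup
    have hφ : IsIrrCharacter M (fun m : M => χ m) :=
      IsIrrCharacter.comp_equiv hφ' (Subgroup.subgroupOfEquivOfLe hMK.le).symm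
    set K1 := ⁅M, zpowers a⁆ with hK1
    haveI : (K1.subgroupOf M).Normal := (Subgroup.normal_subgroupOf_iff_le_normalizer
      (Coprime.commutator_le_left' (by
        rw [Subgroup.normalizer_eq_top]; exact le_top))).2
      (Subgroup.normalizer_commutator_ge_left M (zpowers a))
    have hK1M : K1 ≤ M := Subgroup.commutator_le_left M (zpowers a)
    have haK1 : a ∈ Subgroup.normalizer (K1 : Set Γ) :=
      Subgroup.normalizer_commutator_ge_right M (zpowers a) (Subgroup.mem_zpowers a)
    haveI := Fintype.ofFinite K1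
    haveI := Fintype.ofFinite (K1.subgroupOf M)
    by_cases ht : TrivOn (K1.subgroupOf M) (fun m : M => χ m)
    · -- `M` is central modulo the kernel: impossible
      exfalso
      let q : Γ →* (Module.End ℂ (Fin N → ℂ))ˣ := MonoidHom.toHomUnits ρ
      have hker : ∀ x : Γ, χ x = χ 1 → q x = 1 := fun x hx => by
        refine Units.ext ?_
        show ρ x = 1
        have : ρ.character x = (Module.finrank ℂ (Fin N → ℂ) : ℂ) := by
          rw [hN, hρ, hx, hd]
        exact (Char.character_eq_finrank_iff ρ x).1 this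
      have hMA : ⁅M.map q, (zpowers a).map q⁆ = ⊥ := by
        rw [← Subgroup.map_commutator, Subgroup.map_eq_bot_iff]
        intro x hx
        refine MonoidHom.mem_ker.2 (hker x ?_)
        simpa using ht ⟨⟨x, hK1M hx⟩, hx⟩
      have hKA : ⁅K.map q, (zpowers a).map q⁆ = K.map q := by
        rw [← Subgroup.map_commutator, hKa]
      have hMKq : ⁅⁅M.map q, K.map q⁆, (zpowers a).map q⁆ = ⊥ := by
        refine le_bot_iff.1 (hMA ▸ Subgroup.commutator_mono ?_ le_rfl)
        rw [← Subgroup.map_commutator]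
        exact Subgroup.map_mono (Subgroup.commutator_le_left M K)
      have h3 : ⁅⁅K.map q, (zpowers a).map q⁆, M.map q⁆ = ⊥ :=
        Subgroup.commutator_commutator_eq_bot_of_rotate
          (by rw [Subgroup.commutator_comm ((zpowers a).map q), hMA, Subgroup.commutator_bot_left]) hMKq
      rw [hKA] at h3
      have hscal : ∀ m ∈ M, ∃ c : ℂ, ρ m = c • 1 := by
        intro m hm
        refine CharApp.exists_scalar_of_commute ρ (ρ m) fun g => ?_
        have hcm : q m * q g = q g * q m := by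
          have hle : (⊤ : Subgroup Γ) ≤ (Subgroup.centralizer ({q m} : Set _)).comap q := by
            rw [← hgen]
            refine sup_le (fun k hk => ?_) (fun y hy => ?_) <;>
              refine Subgroup.mem_centralizer_iff.2 fun w hw => ?_ <;>
              rw [Set.mem_singleton_iff.1 hw]
            · exact (Subgroup.mem_centralizer_iff.1 ((Subgroup.commutator_eq_bot_iff_le_centralizer.1 h3)
                (Subgroup.mem_map_of_mem q hk)) _ (Subgroup.mem_map_of_mem q hm))
            · exact (Subgroup.mem_centralizer_iff.1 ((Subgroup.commutator_eq_bot_iff_le_centralizer.1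
                (by rw [Subgroup.commutator_comm]; exact hMA))
                (Subgroup.mem_map_of_mem q hy)) _ (Subgroup.mem_map_of_mem q hm))
          exact Subgroup.mem_centralizer_iff.1 (hle (Subgroup.mem_top g)) _ rfl
        exact congrArg Units.val hcm
      have hnorm : ∀ m : M, Complex.normSq (χ m) = (d : ℝ) ^ 2 := by
        intro m
        obtain ⟨c, hc⟩ := hscal m m.2
        have hc1 : c ^ orderOf (m : Γ) = 1 := by
          have h0 := congrArg ρ (pow_orderOf_eq_one (m : Γ))
          rw [map_pow, hc, smul_pow, one_pow, map_one] at h0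
          haveI := Char.nontrivial_of_isIrreducible ρ
          exact smul_left_injective ℂ (one_ne_zero' (Module.End ℂ (Fin N → ℂ)))
            (h0.trans (one_smul ℂ _).symm)
        rw [← hρ, Representation.character, hc, map_smul, LinearMap.trace_one, hN, smul_eq_mul,
          map_mul, Complex.normSq_natCast, Complex.normSq_eq_norm_sq,
          Complex.norm_eq_one_of_pow_eq_one hc1 (orderOf_pos _).ne']
        ring
      obtain ⟨m, σ, hσ, hσρ⟩ := hφ
      haveI := hσ
      have h4 := CharApp.sum_normSq_eq_card σ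
      rw [hσρ] at h4
      simp only [hnorm, sum_const, card_univ, nsmul_eq_mul, ← Nat.card_eq_fintype_card] at h4
      have hd1 : d = 1 := by
        have h5 : (d : ℝ) ^ 2 = 1 := by
          have := mul_left_cancel₀ (Nat.cast_ne_zero.2 Nat.card_pos.ne')
            (h4.trans (mul_one _).symm)
          exact this
        have h6 : d ^ 2 = 1 := by exact_mod_cast h5
        exact (Nat.pow_eq_one.1 h6).resolve_right (by norm_num)
      obtain ⟨l, hl⟩ := exists_hom_of_degree_one hχc (by rw [hd, hd1, Nat.cast_one])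
      refine hnt fun x => ?_
      have hle : K ≤ (MonoidHom.toHomUnits l).ker := by
        conv_lhs => rw [← hKa]
        rw [Subgroup.commutator_le]
        intro x _ y _
        rw [MonoidHom.mem_ker, map_commutatorElement, commutatorElement_eq_one_iff_commute]
        exact mul_comm _ _
      have := congrArg Units.val (MonoidHom.mem_ker.1 (hle x.2))
      rw [hd, hd1, Nat.cast_one, ← hl]
      exact this
    · have hsum : ∑ x : K1, χ x = 0 := by
        have h0 : classInner (fun x : K1.subgroupOf M => χ ((x : M) : Γ)) 1 = 0 := by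
          by_contra h
          exact ht (trivOn_of_constituent_one (K1.subgroupOf M) hφ h)
        simp only [classInner, Pi.one_apply, map_one, mul_one, mul_eq_zero, inv_eq_zero,
          Nat.cast_eq_zero, Nat.card_pos.ne', false_or] at h0
        rw [← h0]
        exact (Fintype.sum_equiv (Subgroup.subgroupOfEquivOfLe hK1M).toEquiv
          (fun x : K1.subgroupOf M => χ ((x : M) : Γ)) (fun x : K1 => χ x) fun x => rfl).symm
      have hlt : Nat.card K1 < n := hcard ▸ lt_of_le_of_lt (Subgroup.card_le_of_le hK1M)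
        (lt_of_le_of_ne (Subgroup.card_le_of_le hMK.le) fun he =>
          hMK.ne (Subgroup.eq_of_le_of_card_ge hMK.le he.ge))
      haveI : Group.IsSolvable K1 :=
        Group.isSolvable_of_isSolvable_injective (Subgroup.inclusion_injective (hK1M.trans hMK.le))
      have hcop : (Nat.card (zpowers a)).Coprime (Nat.card M) := by
        rw [Nat.card_zpowers, hord]
        exact hp.out.coprime_iff_not_dvd.2 fun h => hKp (h.trans (Subgroup.card_dvd_of_le hMK.le))
      haveI : Group.IsSolvable M := Group.isSolvable_of_isSolvable_injective (Subgroup.inclusion_injective hMK.le)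
      have hK1a : ⁅K1, zpowers a⁆ = K1 := Coprime.commutator_commutator_eq
        (by rw [Subgroup.normalizer_eq_top]; exact le_top) hcop (Or.inr inferInstance)
      have h := (fix_le_aux K1 (ih _ hlt) ha haK1
        (fun h => hKp (h.trans (Subgroup.card_dvd_of_le (hK1M.trans hMK.le)))) inferInstance hK1a hχc).2
      have h0 : ∑ x : K1, (χ x).re = 0 := by rw [← Complex.re_sum, hsum, Complex.zero_re]
      rw [h0, hd, Complex.natCast_re, hsplit] at h
      have hpos : (0 : ℝ) < Nat.card K1 := Nat.cast_pos.2 Nat.card_pos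
      have h' := h (mul_pos hpos hdR)
      rw [add_zero, mul_comm (2 : ℝ), mul_assoc, mul_left_comm (p : ℝ)] at h'
      exact lt_of_mul_lt_mul_left h' hpos.le
  -- `χ` vanishes on `K \ M`
  have hvan : ∀ k ∈ K, k ∉ M → χ k = 0 := by
    set L : Subgroup Γ := M ⊔ (Subgroup.closure {k : K | χ k ≠ 0}).map K.subtype with hL
    have hLK : L ≤ K := sup_le hMK.le (Subgroup.map_subtype_le _)
    have hLn : L.Normal := by
      refine normal_of_between hgen hLK (hMd.trans le_sup_left) ?_
      have hle : ∀ g : Γ, ∀ x ∈ L, g * x * g⁻¹ ∈ L := by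
        intro g x hx
        have hgL : L ≤ L.comap (MulAut.conj g).toMonoidHom := by
          refine sup_le (fun y hy => Subgroup.mem_sup_left (hMn.conj_mem y hy g)) ?_
          rw [MonoidHom.map_closure, Subgroup.closure_le]
          rintro _ ⟨k, hk, rfl⟩
          refine Subgroup.mem_sup_right ⟨⟨g * k * g⁻¹, (inferInstance : K.Normal).conj_mem _ k.2 g⟩,
            Subgroup.subset_closure ?_, rfl⟩
          show χ (g * k * g⁻¹) ≠ 0
          rwa [IsIrrCharacter.isClassFunction hχ]
        exact hgL hx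
      refine Subgroup.mem_normalizer_iff.2 fun x => ⟨hle a x, fun hx => ?_⟩
      have := hle a⁻¹ _ hx
      rwa [show a⁻¹ * (a * x * a⁻¹) * a⁻¹⁻¹ = x by group] at this
    rcases hdich L le_sup_left hLK hLn with h | h
    · refine absurd ?_ hMsup
      refine Subgroup.map_injective K.subtype_injective ?_
      rw [Subgroup.map_sup, Subgroup.map_subgroupOf_eq_of_le hMK.le, ← hL, h,
        ← MonoidHom.range_eq_map, Subgroup.range_subtype]
    · intro k hk hkM
      by_contra h0
      exact hkM (h.le (Subgroup.mem_sup_right ⟨⟨k, hk⟩, Subgroup.subset_closure h0, rfl⟩))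
  -- the order of the top section
  set Kb := K.map f with hKb
  haveI := Fintype.ofFinite Kb
  have hQ1 : Kb ≠ ⊥ := fun h => hMK.ne (le_antisymm hMK.le fun x hx => by
    have := h.le (Subgroup.mem_map_of_mem f hx)
    exact (QuotientGroup.eq_one_iff x).1 this)
  have hQp : Nat.card Kb ≡ 1 [MOD p] := by
    haveI : Kb.Normal := Subgroup.Normal.map inferInstance f (QuotientGroup.mk'_surjective M)
    letI : MulAction (zpowers (f a)) Kb :=
      MulAction.compHom Kb ((MulAut.conjNormal (H := Kb)).comp (zpowers (f a)).subtype)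
    have hP : IsPGroup p (zpowers (f a)) := by
      refine IsPGroup.of_card (n := 1) ?_
      rw [Nat.card_zpowers, pow_one]
      refine orderOf_eq_prime (by rw [← map_pow, ha, map_one]) fun h1 => ?_
      have := hjK 1 (mem_erase.2 ⟨one_ne_zero, mem_range.2 hp.out.one_lt⟩)
      rw [pow_one] at this
      exact this (hMK.le ((QuotientGroup.eq_one_iff a).1 h1))
    have hfix : MulAction.fixedPoints (zpowers (f a)) Kb = {1} := by
      ext v
      rw [MulAction.mem_fixedPoints, Set.mem_singleton_iff]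
      constructor
      · intro h
        obtain ⟨_, k, hk, rfl⟩ := v
        have h1 := congrArg Subtype.val (h ⟨f a, Subgroup.mem_zpowers _⟩)
        rw [MulAction.compHom_smul_def] at h1
        simp only [MonoidHom.coe_comp, Subgroup.coe_subtype, Function.comp_apply,
          MulAut.smul_def, MulAut.conjNormal_apply] at h1
        exact Subtype.ext ((QuotientGroup.eq_one_iff k).2 (hfpf k hk (mul_inv_eq_iff_eq_mul.1 h1)))
      · intro hv g
        rw [hv, MulAction.compHom_smul_def]
        exact map_one _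
    have := hP.card_modEq_card_fixedPoints Kb
    rw [hfix] at this
    rwa [Nat.card_coe_set_eq, Set.ncard_singleton] at this
  have hQ8 : 8 ≤ Nat.card Kb := by
    have h2 : 1 < Nat.card Kb := (Subgroup.one_lt_card_iff_ne_bot Kb).2 hQ1
    have hdvd : p ∣ Nat.card Kb - 1 := (Nat.modEq_iff_dvd' Nat.card_pos).1 hQp.symm
    have hge : p + 1 ≤ Nat.card Kb := by
      have := Nat.le_of_dvd (by omega) hdvd
      omega
    by_contra hlt
    -- only six would be possible
    have hp7 : p < 7 := by omega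
    have hpe : p = 5 := by
      rcases (show p = 5 ∨ p = 6 by omega) with h | h
      · exact h
      · exact absurd (h ▸ hp.out) (by norm_num)
    have hQ6 : Nat.card Kb = 6 := by subst hpe; omega
    haveI := Fact.mk Nat.prime_two
    obtain ⟨v, hv⟩ := exists_prime_orderOf_dvd_card' (G := Kb) 2 (by rw [hQ6]; norm_num)
    set L : Subgroup Γ :=
      { carrier := {x | x ∈ K ∧ f x ^ 2 = 1}
        one_mem' := ⟨one_mem _, by rw [map_one, one_pow]⟩
        mul_mem' := fun {x y} hx hy => ⟨mul_mem hx.1 hy.1, by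
          rw [map_mul, (hfc x hx.1 y hy.1).mul_pow, hx.2, hy.2, one_mul]⟩
        inv_mem' := fun {x} hx => ⟨inv_mem hx.1, by rw [map_inv, inv_pow, hx.2, inv_one]⟩ } with hL
    have hLn : L.Normal := ⟨fun x hx g => ⟨(inferInstance : K.Normal).conj_mem x hx.1 g, by
      rw [map_mul, map_mul, map_inv, conj_pow, hx.2, mul_one, mul_inv_cancel]⟩⟩
    have hML : M ≤ L := fun x hx => ⟨hMK.le hx, by
      rw [show f x = 1 from (QuotientGroup.eq_one_iff x).2 hx, one_pow]⟩
    obtain ⟨k, hk, hkv⟩ := v.2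
    rcases hdich L hML (fun x hx => hx.1) hLn with h | h
    · haveI := Fact.mk Nat.prime_three
      obtain ⟨w, hw⟩ := exists_prime_orderOf_dvd_card' (G := Kb) 3 (by rw [hQ6]; norm_num)
      obtain ⟨k', hk', hk'w⟩ := w.2
      have : (w : Γ ⧸ M) ^ 2 = 1 := hk'w ▸ (h.ge hk').2
      rw [← orderOf_dvd_iff_pow_eq_one, Subgroup.orderOf_coe, hw] at this
      norm_num at this
    · have hkL : k ∈ L := ⟨hk, by
        rw [hkv, ← Subgroup.coe_pow, ← hv, pow_orderOf_eq_one, Subgroup.coe_one]⟩
      have : v = 1 := Subtype.ext (hkv ▸ (QuotientGroup.eq_one_iff k).2 (h.le hkL))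
      rw [this, orderOf_one] at hv
      norm_num at hv
  -- the reproducing identity
  set e : Γ → ℂ := fun x => if x ∈ K then conj (χ x) else 0 with he
  have hecl : IsClassFunction Γ e := by
    intro x g
    have hiff : g * x * g⁻¹ ∈ K ↔ x ∈ K := ⟨fun h => by
      have := (inferInstance : K.Normal).conj_mem _ h g⁻¹
      rwa [show g⁻¹ * (g * x * g⁻¹) * g⁻¹⁻¹ = x by group] at this,
      fun h => (inferInstance : K.Normal).conj_mem x h g⟩
    simp only [he, hiff, IsIrrCharacter.isClassFunction hχ x g]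
  have hext : ∀ w : Γ → ℂ, ∑ x, e x * w x = ∑ k : K, conj (χ k) * w k := by
    intro w
    simp only [he, ite_mul, zero_mul]
    rw [← sum_filter]
    exact sum_subtype _ (fun x => by simp) fun x => conj (χ x) * w x
  have hE : Char.groupSumOp ρ e = ((Nat.card K : ℂ) / d) • LinearMap.id := by
    rw [Char.groupSumOp_eq_smul ρ hecl, hN, hρ, hext]
    congr 2
    rw [← Complex.ofReal_natCast, ← hnormK, Complex.ofReal_sum]
    exact sum_congr rfl fun k _ => (Complex.normSq_eq_conj_mul_self).symm ▸ rfl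
  have hid : ∀ g : Γ, χ g * ((Nat.card K : ℂ) / d) = ∑ k : K, conj (χ k) * χ (g * k) := by
    intro g
    have h1 : LinearMap.trace ℂ _ (ρ g * Char.groupSumOp ρ e) = χ g * ((Nat.card K : ℂ) / d) := by
      rw [hE, show (LinearMap.id : Module.End ℂ (Fin N → ℂ)) = 1 from rfl, mul_smul_comm, mul_one,
        map_smul, smul_eq_mul, mul_comm, ← hρ]
      rfl
    have h2 : LinearMap.trace ℂ _ (ρ g * Char.groupSumOp ρ e) = ∑ x, e x * χ (g * x) := by
      rw [Char.groupSumOp, mul_sum, map_sum]
      refine sum_congr rfl fun x _ => ?_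
      rw [mul_smul_comm, ← map_mul, map_smul, smul_eq_mul, ← hρ]
      rfl
    rw [← h1, h2, hext]
  -- the translates of `M`
  have hjm : ∀ j ∈ (range p).erase 0,
      (Nat.card Kb : ℝ) * ∑ m : M, Complex.normSq (χ (a ^ j * m))
        ≤ ∑ k : K, Complex.normSq (χ (a ^ j * k)) := by
    intro j hj
    choose r hr hrv using fun v : Kb => v.2
    have hmem : ∀ v : Kb, ∀ m : M, (a ^ j)⁻¹ * (r v * (a ^ j * m) * (r v)⁻¹) ∈ K := by
      intro v m
      rw [show (a ^ j)⁻¹ * (r v * (a ^ j * m) * (r v)⁻¹)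
        = ((a ^ j)⁻¹ * r v * (a ^ j)) * m * (r v)⁻¹ by group]
      refine K.mul_mem (K.mul_mem ?_ (hMK.le m.2)) (K.inv_mem (hr v))
      have := (inferInstance : K.Normal).conj_mem _ (hr v) (a ^ j)⁻¹
      rwa [inv_inv] at this
    let φ : Kb × M → K := fun x => ⟨_, hmem x.1 x.2⟩
    have hφ : Function.Injective φ := by
      rintro ⟨v, m⟩ ⟨v', m'⟩ he'
      have h1 : (a ^ j)⁻¹ * (r v * (a ^ j * m) * (r v)⁻¹) =
          (a ^ j)⁻¹ * (r v' * (a ^ j * m') * (r v')⁻¹) := congrArg Subtype.val he'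
      rw [mul_right_inj] at h1
      have h2 := congrArg f h1
      have hm1 : ∀ m : M, f (m : Γ) = 1 := fun m => (QuotientGroup.eq_one_iff _).2 m.2
      simp only [map_mul, map_inv, map_pow, hm1, mul_one] at h2
      have hc : Commute (f a) (f ((r v')⁻¹ * r v)) := by
        refine commute_of_pow (p := p) (by rw [← map_pow, ha, map_one])
          (fun hdv => (mem_erase.1 hj).1 (Nat.eq_zero_of_dvd_of_lt hdv
            (mem_range.1 (mem_erase.1 hj).2))) ?_
        show (f a) ^ j * f ((r v')⁻¹ * r v) = f ((r v')⁻¹ * r v) * (f a) ^ j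
        rw [map_mul, map_inv]
        calc (f a) ^ j * ((f (r v'))⁻¹ * f (r v))
            = (f (r v'))⁻¹ * (f (r v') * (f a) ^ j * (f (r v'))⁻¹) * f (r v) := by group
          _ = (f (r v'))⁻¹ * f (r v) * (f a) ^ j := by rw [← h2]; group
      have hv : v = v' := by
        have h3 := (QuotientGroup.eq_one_iff _).2 (hfpf _ (K.mul_mem (K.inv_mem (hr v')) (hr v)) hc)
        refine (Subtype.ext ?_).symm
        rw [← hrv v, ← hrv v']
        show f (r v') = f (r v)
        rw [← inv_mul_eq_one, ← map_inv, ← map_mul]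
        exact h3
      subst hv
      have h4 : (m : Γ) = m' := mul_left_cancel (mul_left_cancel (mul_right_cancel h1))
      rw [Subtype.ext h4]
    calc (Nat.card Kb : ℝ) * ∑ m : M, Complex.normSq (χ (a ^ j * m))
        = ∑ x : Kb × M, Complex.normSq (χ (a ^ j * (φ x : Γ))) := by
          rw [Fintype.sum_prod_type, Nat.card_eq_fintype_card, ← card_univ, ← nsmul_eq_mul,
            ← sum_const]
          refine sum_congr rfl fun v _ => sum_congr rfl fun m _ => ?_
          show _ = Complex.normSq (χ (a ^ j * ((a ^ j)⁻¹ * (r v * (a ^ j * m) * (r v)⁻¹))))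
          rw [mul_inv_cancel_left, IsIrrCharacter.isClassFunction hχ]
      _ = ∑ k ∈ univ.map ⟨φ, hφ⟩, Complex.normSq (χ (a ^ j * k)) := by rw [sum_map]; rfl
      _ ≤ ∑ k : K, Complex.normSq (χ (a ^ j * k)) :=
          sum_le_sum_of_subset_of_nonneg (subset_univ _) fun _ _ _ => Complex.normSq_nonneg _
  -- the whole group, coset by coset
  have htot : ∑ j ∈ (range p).erase 0, ∑ k : K, Complex.normSq (χ (a ^ j * k))
      = ((p : ℝ) - 1) * Nat.card K := by
    have hbij : Function.Bijective (fun x : Fin p × K => a ^ (x.1 : ℕ) * (x.2 : Γ)) := by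
      constructor
      · rintro ⟨i, k⟩ ⟨j, l⟩ he'
        have hkey : ∀ i j : ℕ, i ≤ j → j < p → ∀ k l : K, a ^ i * (k : Γ) = a ^ j * l → i = j := by
          intro i j hij hjp k l hkl
          by_contra hne
          have h1 : a ^ (j - i) = (k : Γ) * (l : Γ)⁻¹ := by
            rw [eq_mul_inv_iff_mul_eq, ← mul_right_inj (a ^ i), ← mul_assoc, ← pow_add,
              Nat.add_sub_cancel' hij, hkl]
          exact hjK (j - i) (mem_erase.2 ⟨by omega, mem_range.2 (by omega)⟩)
            (h1 ▸ K.mul_mem k.2 (K.inv_mem l.2))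
        have hij : (i : ℕ) = j := by
          rcases le_total (i : ℕ) j with h | h
          · exact hkey _ _ h j.2 k l he'
          · exact (hkey _ _ h i.2 l k he'.symm).symm
        obtain rfl : i = j := Fin.ext hij
        obtain rfl : k = l := Subtype.ext (mul_left_cancel he')
        rfl
      · intro g
        obtain ⟨y, hy, k, hk, rfl⟩ := Subgroup.mem_sup_of_normal_right.1
          ((sup_comm K (zpowers a) ▸ hgen).ge (Subgroup.mem_top g))
        obtain ⟨j, hj, rfl⟩ := (mem_zpowers_iff_mem_range_orderOf.1 hy) |> mem_image.1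
        exact ⟨(⟨j, hord ▸ mem_range.1 hj⟩, ⟨k, hk⟩), rfl⟩
    have h1 := CharApp.sum_normSq_eq_card ρ
    rw [hρ, ← Fintype.sum_bijective _ hbij
      (fun x => Complex.normSq (χ (a ^ (x.1 : ℕ) * (x.2 : Γ)))) _ (fun _ => rfl),
      Fintype.sum_prod_type, Fin.sum_univ_eq_sum_range
        (fun j => ∑ k : K, Complex.normSq (χ (a ^ j * (k : Γ)))),
      ← add_sum_erase _ _ (mem_range.2 hp0)] at h1
    simp only [pow_zero, one_mul, hnormK] at h1
    have h2 : (Nat.card Γ : ℝ) = p * Nat.card K := by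
      rw [← Nat.card_eq_of_bijective _ hbij, Nat.card_prod, Nat.card_fin, Nat.cast_mul]
    rw [h2] at h1
    linarith
  -- Cauchy
  have hsq : ∑ j ∈ (range p).erase 0, Complex.normSq (χ (a ^ j)) * Nat.card Kb
      ≤ ((p : ℝ) - 1) * (d : ℝ) ^ 2 := by
    have hK0 : (0 : ℝ) < Nat.card K := Nat.cast_pos.2 Nat.card_pos
    have hM : ∑ m : M, Complex.normSq (χ m) ≤ (Nat.card K : ℝ) := by
      rw [← hnormK]
      calc ∑ m : M, Complex.normSq (χ m)
          = ∑ k ∈ univ.map ⟨Subgroup.inclusion hMK.le, Subgroup.inclusion_injective hMK.le⟩,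
              Complex.normSq (χ (k : Γ)) := by rw [sum_map]; rfl
        _ ≤ _ := sum_le_sum_of_subset_of_nonneg (subset_univ _) fun _ _ _ => Complex.normSq_nonneg _
    have hj : ∀ j : ℕ, Complex.normSq (χ (a ^ j)) * ((Nat.card K : ℝ) / d) ^ 2
        ≤ (∑ m : M, Complex.normSq (χ (a ^ j * m))) * Nat.card K := by
      intro j
      have h1 := congrArg (fun z => ‖z‖) (hid (a ^ j))
      have h2 : ∑ k : K, conj (χ k) * χ (a ^ j * k) = ∑ m : M, conj (χ m) * χ (a ^ j * m) := by
        rw [show (∑ m : M, conj (χ m) * χ (a ^ j * m)) =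
          ∑ k ∈ univ.map ⟨Subgroup.inclusion hMK.le, Subgroup.inclusion_injective hMK.le⟩,
            conj (χ (k : Γ)) * χ (a ^ j * (k : Γ)) by rw [sum_map]; rfl]
        refine (sum_subset (subset_univ _) fun k _ hk => ?_).symm
        have : (k : Γ) ∉ M := fun hkM => hk (mem_map.2 ⟨⟨k, hkM⟩, mem_univ _, rfl⟩)
        rw [hvan k k.2 this, map_zero, zero_mul]
      simp only [h2, norm_mul, Complex.norm_div, Complex.norm_natCast] at h1
      calc Complex.normSq (χ (a ^ j)) * ((Nat.card K : ℝ) / d) ^ 2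
          = ‖∑ m : M, conj (χ m) * χ (a ^ j * m)‖ ^ 2 := by
            rw [Complex.normSq_eq_norm_sq, ← mul_pow, h1]
        _ ≤ (∑ m : M, ‖χ m‖ * ‖χ (a ^ j * m)‖) ^ 2 := by
            refine pow_le_pow_left₀ (norm_nonneg _) ((norm_sum_le _ _).trans_eq ?_) 2
            exact sum_congr rfl fun m _ => by rw [norm_mul, Complex.norm_conj]
        _ ≤ (∑ m : M, ‖χ m‖ ^ 2) * ∑ m : M, ‖χ (a ^ j * m)‖ ^ 2 := sum_mul_sq_le_sq_mul_sq _ _ _
        _ ≤ _ := by
            simp only [← Complex.normSq_eq_norm_sq]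
            rw [mul_comm]
            exact mul_le_mul_of_nonneg_left hM (sum_nonneg fun _ _ => Complex.normSq_nonneg _)
    have h3 : (∑ j ∈ (range p).erase 0, Complex.normSq (χ (a ^ j)) * Nat.card Kb)
        * ((Nat.card K : ℝ) / d) ^ 2 ≤ ((p : ℝ) - 1) * (d : ℝ) ^ 2 * ((Nat.card K : ℝ) / d) ^ 2 := by
      rw [div_pow, mul_assoc _ ((d : ℝ) ^ 2), mul_div_cancel₀ _ (pow_ne_zero _ hdR.ne'), pow_two,
        ← mul_assoc _ (Nat.card K : ℝ), ← htot, sum_mul, sum_mul]
      refine sum_le_sum fun j hj' => ?_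
      refine le_trans (le_of_eq (by ring)) (le_trans
        (mul_le_mul_of_nonneg_right (hj j) (Nat.cast_nonneg (Nat.card Kb)))
        (le_trans (le_of_eq (by ring)) (mul_le_mul_of_nonneg_right (hjm j hj') (Nat.cast_nonneg _))))
    exact le_of_mul_le_mul_right h3 (pow_pos (div_pos hK0 hdR) 2)
  have hX : (∑ j ∈ (range p).erase 0, (χ (a ^ j)).re) < ((p : ℝ) - 2) * d / 2 := by
    by_contra hge
    have hge' := not_lt.1 hge
    have h1 : (∑ j ∈ (range p).erase 0, (χ (a ^ j)).re) ^ 2
        ≤ ((p : ℝ) - 1) * ∑ j ∈ (range p).erase 0, Complex.normSq (χ (a ^ j)) := by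
      refine sq_sum_le_card_mul_sum_sq.trans ?_
      rw [card_erase_of_mem (mem_range.2 hp0), card_range, Nat.cast_sub hp0, Nat.cast_one]
      refine mul_le_mul_of_nonneg_left (sum_le_sum fun j _ => ?_) (by linarith)
      rw [Complex.normSq_apply, pow_two]
      exact le_add_of_nonneg_right (mul_self_nonneg _)
    rw [← sum_mul] at hsq
    have h2 : (((p : ℝ) - 2) * d / 2) ^ 2 ≤ (∑ j ∈ (range p).erase 0, (χ (a ^ j)).re) ^ 2 :=
      pow_le_pow_left₀ (div_nonneg (mul_nonneg (by linarith) hdR.le) two_pos.le) hge' 2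
    have hQ8' : (8 : ℝ) ≤ Nat.card Kb := by exact_mod_cast hQ8
    have h3 : (((p : ℝ) - 2) * d / 2) ^ 2 * 8 ≤ ((p : ℝ) - 1) * (((p : ℝ) - 1) * (d : ℝ) ^ 2) :=
      calc (((p : ℝ) - 2) * d / 2) ^ 2 * 8 ≤ (((p : ℝ) - 2) * d / 2) ^ 2 * Nat.card Kb :=
            mul_le_mul_of_nonneg_left hQ8' (sq_nonneg _)
        _ ≤ ((p : ℝ) - 1) * (∑ j ∈ (range p).erase 0, Complex.normSq (χ (a ^ j))) * Nat.card Kb :=
            mul_le_mul_of_nonneg_right (h2.trans h1) (Nat.cast_nonneg _)
        _ ≤ _ := by rw [mul_assoc]; exact mul_le_mul_of_nonneg_left hsq (by linarith)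
    have h4 : 0 < (d : ℝ) ^ 2 * ((p : ℝ) * ((p : ℝ) - 6) + 7) :=
      mul_pos (pow_pos hdR 2) (by nlinarith)
    nlinarith
  linarith

/-- The fixed space of `a` against that of `K`. -/
theorem two_mul_fix_le [Fact p.Prime] (hp5 : 5 ≤ p) (K : Subgroup G) [Fintype K] {a : G} (ha : a ^ p = 1)
    (hn : a ∈ Subgroup.normalizer (K : Set G)) (hK : ¬ p ∣ Nat.card K) (hsol : Group.IsSolvable K)
    (hKa : ⁅K, zpowers a⁆ = K) {χ : G → ℂ} (hχ : IsCharacter G χ) :
    2 * (Nat.card K : ℝ) * ∑ j ∈ range p, (χ (a ^ j)).re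
        ≤ p * ((Nat.card K : ℝ) * (χ 1).re + ∑ x : K, (χ x).re) :=
  (fix_le_aux K (fixBound hp5 _) ha hn hK hsol hKa hχ).1

theorem two_mul_fix_lt [Fact p.Prime] (hp5 : 5 ≤ p) (K : Subgroup G) [Fintype K] {a : G} (ha : a ^ p = 1)
    (hn : a ∈ Subgroup.normalizer (K : Set G)) (hK : ¬ p ∣ Nat.card K) (hsol : Group.IsSolvable K)
    (hKa : ⁅K, zpowers a⁆ = K) {χ : G → ℂ} (hχ : IsCharacter G χ)
    (hlt : ∑ x : K, (χ x).re < (Nat.card K : ℝ) * (χ 1).re) :
    2 * (Nat.card K : ℝ) * ∑ j ∈ range p, (χ (a ^ j)).re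
        < p * ((Nat.card K : ℝ) * (χ 1).re + ∑ x : K, (χ x).re) :=
  (fix_le_aux K (fixBound hp5 _) ha hn hK hsol hKa hχ).2 hlt

end Cfsg.Agent.TwoGen
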