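import Cfsg.Agent.Lib.TwoGen.Setting
import Cfsg.Agent.Lib.TwoGen.FixBound
import Cfsg.Agent.Lib.PrimeInertial.Fixed
import Cfsg.Agent.Lib.BrauerPairs.Basic

/-!
Two subgroups moved by `a` that generate with it, and the resulting bound on fixed spaces.

* `Moved p a X` : `X` is a `p'`-group with `⁅X, ⟨a⟩⁆ = X`
* `Hyp.exists_moved_pair` : two of them generate `G`
* `Hyp.exists_fix_bound` : `2 f < d + g`, `2 g ≤ d` for nontrivial irreducible characters
-/

set_option autoImplicit false
set_option linter.unusedSectionVars false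
set_option linter.style.haveILetI false

open scoped commutatorElement

namespace Cfsg.Agent.TwoGen

open Subgroup

universe u

variable {G : Type u} [Group G] [Finite G] {p : ℕ}

/-- A `p'`-subgroup normalised and moved entirely by `a`. -/
def Moved (p : ℕ) (a : G) (X : Subgroup G) : Prop :=
  ¬ p ∣ Nat.card X ∧ a ∈ normalizer (X : Set G) ∧ ⁅X, zpowers a⁆ = X

namespace Hyp

variable [Fact p.Prime] {S : Sylow p G} (h : Hyp G p)
include h

theorem moved_ne_top (hpG : p ∣ Nat.card G) {a : G} {X : Subgroup G} (hX : Moved p a X) : X ≠ ⊤ :=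
  fun he => hX.1 (by rw [he, card_top]; exact hpG)

theorem zpowers_isPGroup {a : G} (ha : Elt S a) : IsPGroup p (zpowers a) :=
  Signalizer.isPGroup_zpowers_of_pow_eq_one ha.1

theorem coprime_zpowers {a : G} (ha : Elt S a) {R : Subgroup G} (hR : ¬ p ∣ Nat.card R) :
    (Nat.card (zpowers a)).Coprime (Nat.card R) := by
  obtain ⟨n, hn⟩ := IsPGroup.iff_card.1 (h.zpowers_isPGroup ha)
  rw [hn]
  exact ((Fact.out : p.Prime).coprime_iff_not_dvd.2 hR).pow_left n

theorem moved_commutator {a : G} (ha : Elt S a) {R : Subgroup G} (hR : ¬ p ∣ Nat.card R)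
    (hn : a ∈ normalizer (R : Set G)) : Moved p a ⁅R, zpowers a⁆ := by
  have hle : ⁅R, zpowers a⁆ ≤ R := Coprime.commutator_le_left' (zpowers_le.2 hn)
  refine ⟨fun hd => hR (hd.trans (card_dvd_of_le hle)),
    normalizer_commutator_ge_right R (zpowers a) (mem_zpowers a), ?_⟩
  exact Coprime.commutator_commutator_eq (zpowers_le.2 hn) (h.coprime_zpowers ha hR)
    (Or.inl (Coprime.isSolvable_of_isPGroup (h.zpowers_isPGroup ha)))

theorem moved_le_rp {a : G} (ha : Elt S a) {L X : Subgroup G} (hL : L ≠ ⊤) (haL : a ∈ L) (hXL : X ≤ L)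
    (hX : Moved p a X) : X ≤ rp p L := by
  haveI : (Cfsg.pCore p (L ⧸ Cfsg.pPrimeCore p L)).Normal := Cores.pCore_normal p _
  set P := Cfsg.pCore p (L ⧸ Cfsg.pPrimeCore p L) with hP
  have hXP : X ≤ (P.comap (QuotientGroup.mk' (Cfsg.pPrimeCore p L))).map L.subtype := by
    conv_lhs => rw [← hX.2.2]
    rw [commutator_le]
    intro x hx y hy
    obtain ⟨i, rfl⟩ := mem_zpowers_iff.1 hy
    refine ⟨⁅(⟨x, hXL hx⟩ : L), (⟨a, haL⟩ : L) ^ i⁆, ?_, by
      simp [commutatorElement_def]⟩
    show QuotientGroup.mk' _ _ ∈ P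
    rw [map_commutatorElement, map_zpow, commutatorElement_def]
    have h1 : (QuotientGroup.mk' (Cfsg.pPrimeCore p L)) ⟨a, haL⟩ ^ i ∈ P :=
      zpow_mem (h.mk_mem_pCore (S := S) hL haL ha) i
    exact mul_mem ((inferInstance : P.Normal).conj_mem _ h1 _) (inv_mem h1)
  intro x hx
  obtain ⟨v, hv, hvx⟩ := hXP hx
  have hxL : x ∈ L := hXL hx
  rw [mem_rp_iff hxL]
  refine eq_one_of_mem_pCore (p := p) ((Subtype.ext hvx : v = ⟨x, hxL⟩) ▸ hv) ?_
  refine Nat.Coprime.coprime_dvd_left ?_
    ((Fact.out : p.Prime).coprime_iff_not_dvd.2 hX.1).symm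
  exact (orderOf_map_dvd (QuotientGroup.mk' (Cfsg.pPrimeCore p L)) (⟨x, hxL⟩ : L)).trans
    (by rw [Subgroup.orderOf_mk, ← Subgroup.orderOf_mk x hx]; exact orderOf_dvd_natCard _)

/-- Two moved subgroups generate. -/
theorem exists_moved_pair (hpG : p ∣ Nat.card G) {a : G} (ha : Elt S a) (ha1 : a ≠ 1) :
    ∃ X X' : Subgroup G, Moved p a X ∧ Moved p a X' ∧ X ⊔ X' = ⊤ := by
  haveI := h.simple
  set T : Set (Subgroup G) := {X | Moved p a X} with hT
  have hbot : (⊥ : Subgroup G) ∈ T := by
    refine ⟨?_, ?_, commutator_bot_left _⟩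
    · rw [card_bot]; exact (Fact.out : p.Prime).not_dvd_one
    · rw [Subgroup.normalizer_eq_top]; exact mem_top a
  have hmax : ∀ X ∈ T, ∃ Y, X ≤ Y ∧ Maximal (· ∈ T) Y := fun X hX =>
    (Set.toFinite T).exists_le_maximal hX
  obtain ⟨X, -, hX⟩ := hmax ⊥ hbot
  by_cases huniq : ∀ Y, Maximal (· ∈ T) Y → Y = X
  · exfalso
    have htop : ∀ Y ∈ T, Y ≤ X := fun Y hY => by
      obtain ⟨Z, hYZ, hZ⟩ := hmax Y hY
      exact huniq Z hZ ▸ hYZ
    have hCN : ∀ c : G, c * a = a * c → c ∈ normalizer (X : Set G) := by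
      intro c hc
      have key : ∀ d : G, d * a = a * d → ∀ x ∈ X, d * x * d⁻¹ ∈ X := by
        intro d hd x hx
        have hconj : (MulAut.conj d).toMonoidHom a = a := by
          show d * a * d⁻¹ = a
          rw [hd, mul_inv_cancel_right]
        have hmem : X.map (MulAut.conj d).toMonoidHom ∈ T := by
          refine ⟨?_, ?_, ?_⟩
          · rw [card_map_of_injective (MulAut.conj d).injective]
            exact hX.1.1
          · have := le_normalizer_map (MulAut.conj d).toMonoidHom (mem_map_of_mem _ hX.1.2.1)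
            rwa [hconj] at this
          · have := congrArg (Subgroup.map (MulAut.conj d).toMonoidHom) hX.1.2.2
            rwa [map_commutator, MonoidHom.map_zpowers, hconj] at this
        exact htop _ hmem ⟨x, hx, rfl⟩
      refine mem_normalizer_iff.2 fun x => ⟨key c hc x, fun hx => ?_⟩
      have := key c⁻¹ (by rw [inv_mul_eq_iff_eq_mul, ← mul_assoc, hc, mul_inv_cancel_right]) _ hx
      rwa [show c⁻¹ * (c * x * c⁻¹) * c⁻¹⁻¹ = x by group] at this
    have hall : ∀ g : G, g * a * g⁻¹ ∈ normalizer (X : Set G) ∧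
        (X = ⊥ → Commute a (g * a * g⁻¹)) := by
      intro g
      set y := g * a * g⁻¹ with hy
      obtain ⟨d, hd, hz⟩ := h.exists_partner ha (h.elt_conj ha g)
      set H := closure ({a, y} : Set G) with hH
      have haH : a ∈ normalizer ((rp p H : Subgroup G) : Set G) :=
        le_normalizer_rp H (subset_closure (by simp))
      have hR := not_dvd_rp (p := p) H
      have hsup := Coprime.commutator_sup_centralizer (zpowers_le.2 haH) (h.coprime_zpowers ha hR)
        (Or.inl (Coprime.isSolvable_of_isPGroup (h.zpowers_isPGroup ha)))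
      have hle : rp p H ≤ X ⊔ centralizer ({a} : Set G) := by
        rw [← hsup]
        refine sup_le ((htop _ (h.moved_commutator ha hR haH)).trans le_sup_left) (fun c hc =>
          mem_sup_right (mem_centralizer_iff.2 fun w hw => ?_))
        rw [Set.mem_singleton_iff.1 hw]
        exact mem_centralizer_iff.1 hc.2 a (mem_zpowers a)
      have hzC : d * y * d⁻¹ ∈ centralizer ({a} : Set G) := mem_centralizer_iff.2 fun w hw => by
        rw [Set.mem_singleton_iff.1 hw]; exact hz
      have hCle : centralizer ({a} : Set G) ≤ normalizer (X : Set G) := fun c hc =>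
        hCN c (mem_centralizer_iff.1 hc a rfl).symm
      refine ⟨?_, fun hX1 => ?_⟩
      · have hdN : d ∈ normalizer (X : Set G) := (sup_le le_normalizer hCle) (hle hd)
        have := mul_mem (mul_mem (inv_mem hdN) (hCle hzC)) hdN
        rwa [show d⁻¹ * (d * y * d⁻¹) * d = y by group] at this
      · have hdC : d ∈ centralizer ({a} : Set G) := by
          have := hle hd
          rwa [hX1, bot_sup_eq] at this
        have := mul_mem (mul_mem (inv_mem hdC) hzC) hdC
        rw [show d⁻¹ * (d * y * d⁻¹) * d = y by group] at this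
        exact mem_centralizer_iff.1 this a rfl
    have hgen : ∀ N : Subgroup G, (∀ g : G, g * a * g⁻¹ ∈ N) → N = ⊤ := by
      intro N hN
      refine top_le_iff.1 (le_trans (le_of_eq ?_) (normalClosure_le_normal_aux N hN))
      symm
      refine (IsSimpleGroup.eq_bot_or_eq_top_of_normal (normalClosure {a}) inferInstance).resolve_left
        fun hb => ha1 ?_
      exact mem_bot.1 (hb ▸ subset_normalClosure rfl)
    have hXn : X.Normal := normalizer_eq_top_iff.1 (hgen _ fun g => (hall g).1)
    rcases IsSimpleGroup.eq_bot_or_eq_top_of_normal X hXn with hX1 | hX1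
    · refine h.centralizer_ne_top ha1 (hgen _ fun g => mem_centralizer_iff.2 fun w hw => ?_)
      rw [Set.mem_singleton_iff.1 hw]
      exact ((hall g).2 hX1).eq
    · exact h.moved_ne_top hpG hX.1 hX1
  · push_neg at huniq
    obtain ⟨Y, hY, hYX⟩ := huniq
    refine ⟨X, Y, hX.1, hY.1, ?_⟩
    set L := X ⊔ Y ⊔ zpowers a with hL
    have hLtop : L = ⊤ := by
      by_contra hne
      have haL : a ∈ L := mem_sup_right (mem_zpowers a)
      have haR : a ∈ normalizer ((rp p L : Subgroup G) : Set G) := le_normalizer_rp L haL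
      have hW : ⁅rp p L, zpowers a⁆ ∈ T := h.moved_commutator ha (not_dvd_rp L) haR
      have hin : ∀ Z, Maximal (· ∈ T) Z → Z ≤ L → Z = ⁅rp p L, zpowers a⁆ := fun Z hZ hZL => by
        have hle : Z ≤ ⁅rp p L, zpowers a⁆ := by
          conv_lhs => rw [← hZ.1.2.2]
          exact commutator_mono (h.moved_le_rp ha hne haL hZL hZ.1) le_rfl
        exact le_antisymm hle (hZ.2 hW hle)
      exact hYX ((hin Y hY (le_sup_right.trans le_sup_left)).trans
        (hin X hX (le_sup_left.trans le_sup_left)).symm)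
    have hn : L ≤ normalizer ((X ⊔ Y : Subgroup G) : Set G) := by
      refine sup_le le_normalizer (zpowers_le.2 ?_)
      exact Coprime.mem_normalizer_of_forall fun x hx => by
        have := (Subgroup.map_sup X Y (MulAut.conj a).toMonoidHom).le ⟨x, hx, rfl⟩
        refine (sup_le_sup ?_ ?_ : _ ≤ X ⊔ Y) this
        · rintro _ ⟨z, hz, rfl⟩; exact (mem_normalizer_iff.1 hX.1.2.1 z).1 hz
        · rintro _ ⟨z, hz, rfl⟩; exact (mem_normalizer_iff.1 hY.1.2.1 z).1 hz
    have hXY : (X ⊔ Y).Normal := normalizer_eq_top_iff.1 (top_le_iff.1 (hLtop ▸ hn))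
    refine (IsSimpleGroup.eq_bot_or_eq_top_of_normal _ hXY).resolve_left fun hb => hYX ?_
    rw [sup_eq_bot_iff] at hb
    rw [hb.1, hb.2]
where
  normalClosure_le_normal_aux (N : Subgroup G) {a : G} (hN : ∀ g : G, g * a * g⁻¹ ∈ N) :
      normalClosure ({a} : Set G) ≤ N := (closure_le N).2 fun x hx => by
    obtain ⟨b, hb, hc⟩ := Group.mem_conjugatesOfSet_iff.1 hx
    rw [Set.mem_singleton_iff.1 hb] at hc
    obtain ⟨c, rfl⟩ := isConj_iff.1 hc
    exact hN c

/-- The fixed space of `a` in a nontrivial irreducible character. -/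
theorem exists_fix_bound (hp5 : 5 ≤ p) (hpG : p ∣ Nat.card G) {a : G} (ha : Elt S a) (ha1 : a ≠ 1)
    (χ : IrrCharacter G) (hne : χ ≠ BrauerPairs.oneIrr G) :
    ∃ d g f : ℕ, (χ : G → ℂ) 1 = d ∧
      ∑ j ∈ Finset.range p, ((χ : G → ℂ) (a ^ j)).re = p * f ∧ 2 * g ≤ d ∧ 2 * f < d + g := by
  classical
  haveI := h.simple
  have hχc := Char.IsIrrCharacter.isCharacter χ.2
  obtain ⟨X, X', hX, hX', htop⟩ := h.exists_moved_pair hpG ha ha1
  obtain ⟨n, ρ, hirr, hρ⟩ := χ.2
  haveI := hirr
  obtain ⟨d, hd0, hd⟩ := Char.IsIrrCharacter.exists_degree χ.2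
  have hdn : d = n := by
    have : (d : ℂ) = (n : ℂ) := by
      rw [← hd, ← hρ, Representation.char_one, Module.finrank_fin_fun]
    exact_mod_cast this
  subst hdn
  haveI := Fintype.ofFinite G
  -- no common fixed vector
  have hfix0 : ∀ v : Fin d → ℂ, (∀ g : G, ρ g v = v) → v = 0 := by
    intro v hv
    by_contra hv0
    have hinv : Representation.invariants ρ ≠ ⊥ :=
      fun hb => hv0 ((Submodule.mem_bot ℂ).1 (hb ▸ hv))
    have h1 : classInner (χ : G → ℂ) 1 = (Module.finrank ℂ (Representation.invariants ρ) : ℂ) := by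
      have h2 := CharApp.sum_char_eq_card_mul (ρ := ρ)
      simp only [classInner, Pi.one_apply, map_one, mul_one]
      rw [← hρ, h2, ← mul_assoc, inv_mul_cancel₀ (Nat.cast_ne_zero.2 Nat.card_pos.ne'), one_mul]
    have h3 := Char.classInner_irr_of_ne χ.2 (BrauerPairs.oneIrr G).2 fun he => hne (Subtype.ext he)
    rw [show ((BrauerPairs.oneIrr G : IrrCharacter G) : G → ℂ) = 1 from rfl, h1, Nat.cast_eq_zero,
      Submodule.finrank_eq_zero] at h3
    exact hinv h3
  set W := Representation.invariants (ρ.comp X.subtype) with hW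
  set W' := Representation.invariants (ρ.comp X'.subtype) with hW'
  have hdisj : W ⊓ W' = ⊥ := by
    rw [eq_bot_iff]
    rintro v ⟨h1, h2⟩
    rw [Submodule.mem_bot]
    let Fx : Subgroup G :=
      { carrier := {g | ρ g v = v}
        one_mem' := by show ρ 1 v = v; rw [map_one]; rfl
        mul_mem' := fun {g k} hg hk => by
          show ρ (g * k) v = v
          rw [map_mul, Module.End.mul_apply, show ρ k v = v from hk, show ρ g v = v from hg]
        inv_mem' := fun {g} hg => by
          show ρ g⁻¹ v = v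
          conv_lhs => rw [← (show ρ g v = v from hg)]
          rw [← Module.End.mul_apply, ← map_mul, inv_mul_cancel, map_one]
          rfl }
    have hFx : (⊤ : Subgroup G) ≤ Fx :=
      htop ▸ sup_le (fun x hx => h1 ⟨x, hx⟩) fun x hx => h2 ⟨x, hx⟩
    exact hfix0 v fun g => hFx (mem_top g)
  have hsum : Module.finrank ℂ W + Module.finrank ℂ W' ≤ d := by
    rw [← Submodule.finrank_sup_add_finrank_inf_eq, hdisj, finrank_bot, add_zero]
    exact (Submodule.finrank_le _).trans_eq (Module.finrank_fin_fun ℂ)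
  obtain ⟨Y, hY, hg⟩ : ∃ Y, Moved p a Y ∧
      2 * Module.finrank ℂ (Representation.invariants (ρ.comp Y.subtype)) ≤ d := by
    rcases le_total (Module.finrank ℂ W) (Module.finrank ℂ W') with hle | hle
    · exact ⟨X, hX, by rw [← hW]; omega⟩
    · exact ⟨X', hX', by rw [← hW']; omega⟩
  set g := Module.finrank ℂ (Representation.invariants (ρ.comp Y.subtype)) with hgdef
  haveI := Fintype.ofFinite Y
  have hsumY : ∑ x : Y, ((χ : G → ℂ) x).re = (Nat.card Y : ℝ) * g := by
    rw [← Complex.re_sum, ← hρ, PrimeInertial.sum_character_eq ρ Y]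
    simp [hgdef]
  set f := Module.finrank ℂ (Representation.invariants (ρ.comp (zpowers a).subtype)) with hfdef
  haveI := Fintype.ofFinite (zpowers a)
  have hord : orderOf a = p := orderOf_eq_prime ha.1 ha1
  have hsumA : ∑ j ∈ Finset.range p, ((χ : G → ℂ) (a ^ j)).re = p * f := by
    have h1 := PrimeInertial.sum_character_eq ρ (zpowers a)
    rw [Nat.card_zpowers, hord, hρ] at h1
    have h2 : ∑ j ∈ Finset.range p, (χ : G → ℂ) (a ^ j) = ∑ x : zpowers a, (χ : G → ℂ) x := by
      rw [Finset.sum_range (fun j => (χ : G → ℂ) (a ^ j))]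
      exact Fintype.sum_equiv ((finCongr hord.symm).trans (finEquivZPowers (isOfFinOrder_of_finite a)))
        _ _ fun j => by simp [finEquivZPowers_apply]
    rw [← Complex.re_sum, h2, h1]
    simp [hfdef]
  refine ⟨d, g, f, hd, hsumA, hg, ?_⟩
  have h3 := two_mul_fix_lt hp5 Y ha.1 hY.2.1 hY.1 (h.solvable Y (h.moved_ne_top hpG hY)) hY.2.2 hχc
    (by
      rw [hsumY, hd, Complex.natCast_re]
      exact mul_lt_mul_of_pos_left (by exact_mod_cast (by omega : g < d))
        (Nat.cast_pos.2 Nat.card_pos))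
  rw [hsumA, hsumY, hd, Complex.natCast_re, ← mul_add, mul_assoc (2 : ℝ), mul_left_comm (p : ℝ),
    mul_left_comm (2 : ℝ)] at h3
  have h4 := lt_of_mul_lt_mul_left h3 (Nat.cast_nonneg _)
  rw [mul_left_comm (2 : ℝ)] at h4
  have h5 := lt_of_mul_lt_mul_left h4 (Nat.cast_nonneg _)
  exact_mod_cast h5

end Hyp

end Cfsg.Agent.TwoGen
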