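import Cfsg.Agent.Lib.TwoGen.Avg
import Cfsg.Agent.Lib.TwoGen.Pairs
import Cfsg.Agent.Lib.DerangeClass.TwoClasses
import Cfsg.Agent.Lib.Blocks.Induced

/-!
A minimal simple group is generated by two elements, and what follows from it.

* `exists_pair_generating`
* `solvable_of_inherited` : reduction of a property inherited by sections to minimal simple groups
* `false_of_solubilizers` : in a minimal simple group some solubilizer is not a subgroup
-/

set_option autoImplicit false
set_option linter.unusedSectionVars false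
set_option linter.style.haveILetI false

open scoped Pointwise

namespace Cfsg.Agent.TwoGen

open Subgroup

universe u

/-- A minimal simple group is generated by two elements. -/
theorem exists_pair_generating {G : Type u} [Group G] [Finite G] (hG : IsSimpleGroup G)
    (hna : ∃ a b : G, a * b ≠ b * a) (hsol : ∀ H : Subgroup G, H ≠ ⊤ → Group.IsSolvable H) :
    ∃ a b : G, closure ({a, b} : Set G) = ⊤ := by
  by_contra hno
  push_neg at hno
  haveI := hG
  have hns : ¬ Group.IsSolvable G := fun h => by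
    obtain ⟨a, b, hab⟩ := hna
    exact hab (IsSimpleGroup.comm_iff_isSolvable.2 h a b)
  obtain ⟨p, hp, hp3, hpG⟩ : ∃ p : ℕ, p.Prime ∧ 3 < p ∧ p ∣ Nat.card G := by
    obtain ⟨p, q, r, hp, hq, hr, hpq, hpr, hqr, hpd, hqd, hrd⟩ := DerangeClass.exists_three_primes hns
    have := hp.two_le
    have := hq.two_le
    have := hr.two_le
    by_cases h1 : 3 < p
    · exact ⟨p, hp, h1, hpd⟩
    by_cases h2 : 3 < q
    · exact ⟨q, hq, h2, hqd⟩
    exact ⟨r, hr, by omega, hrd⟩
  haveI := Fact.mk hp
  have h : Hyp G p := ⟨hp3, hG, hsol, hno, hna⟩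
  obtain ⟨M, hM⟩ := Blocks.exists_isPModular hp
  have hp5 : 5 ≤ p := by
    have h4 : p ≠ 4 := fun h4 => by rw [h4] at hp; norm_num at hp
    omega
  obtain ⟨S⟩ : Nonempty (Sylow p G) := inferInstance
  refine h.false_of_fix (S := S) hM (Sylow.ne_bot_of_dvd_card S hpG) fun a ha ha1 χ hne => ?_
  exact h.exists_fix_bound hp5 hpG ha ha1 χ hne

/-- A property inherited by sections forces solvability if minimal simple groups do not have it. -/
theorem solvable_of_inherited (P : ∀ (G : Type u) [Group G], Prop)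
    (hsub : ∀ (G : Type u) [Group G] [Finite G] (H : Subgroup G), P G → P H)
    (hquot : ∀ (G : Type u) [Group G] [Finite G] (N : Subgroup G) [N.Normal],
      Group.IsSolvable N → P G → P (G ⧸ N))
    (hsimple : ∀ (G : Type u) [Group G] [Finite G], IsSimpleGroup G → (∃ a b : G, a * b ≠ b * a) →
      (∀ H : Subgroup G, H ≠ ⊤ → Group.IsSolvable H) → ¬ P G)
    (G : Type u) [Group G] [Finite G] (hP : P G) : Group.IsSolvable G := by
  suffices ∀ (n : ℕ) (G : Type u) [Group G] [Finite G], Nat.card G = n → P G → Group.IsSolvable G from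
    this _ G rfl hP
  intro n
  induction n using Nat.strong_induction_on with
  | _ n ih =>
  intro G _ _ hn hP
  by_contra hns
  have hsol : ∀ H : Subgroup G, H ≠ ⊤ → Group.IsSolvable H := fun H hH =>
    ih _ (hn ▸ lt_of_le_of_ne (card_le_card_group H) fun h => hH (eq_top_of_card_eq H h)) H rfl
      (hsub G H hP)
  haveI : Nontrivial G := by
    by_contra h
    haveI := not_nontrivial_iff_subsingleton.1 h
    exact hns inferInstance
  have hnab : ∃ a b : G, a * b ≠ b * a := by
    by_contra h
    push_neg at h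
    exact hns (Group.isSolvable_of_comm h)
  have hG : IsSimpleGroup G := by
    refine ⟨fun N hN => ?_⟩
    by_contra h
    push_neg at h
    haveI := hsol N h.2
    have hlt : Nat.card (G ⧸ N) < n := by
      rw [← hn, Subgroup.card_eq_card_quotient_mul_card_subgroup N]
      exact lt_mul_of_one_lt_right Nat.card_pos ((one_lt_card_iff_ne_bot N).2 h.1)
    haveI := ih _ hlt (G ⧸ N) rfl (hquot G N (hsol N h.2) hP)
    exact hns (Group.isSolvable_of_ker_le_range N.subtype (QuotientGroup.mk' N)
      (by rw [QuotientGroup.ker_mk', range_subtype]))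
  exact hsimple G hG hnab hsol hP

/-- In a minimal simple group some solubilizer is not a subgroup. -/
theorem false_of_solubilizers {G : Type u} [Group G] [Finite G] (hG : IsSimpleGroup G)
    (hna : ∃ a b : G, a * b ≠ b * a) (hsol : ∀ H : Subgroup G, H ≠ ⊤ → Group.IsSolvable H)
    (hs : ∀ x : G, ∃ H : Subgroup G,
      (H : Set G) = {y : G | Group.IsSolvable ↥(closure ({x, y} : Set G))}) : False := by
  classical
  haveI := hG
  choose K hK using hs
  have hmem : ∀ x y, y ∈ K x ↔ Group.IsSolvable ↥(closure ({x, y} : Set G)) := fun x y => by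
    rw [← SetLike.mem_coe, hK]; rfl
  have hns : ¬ Group.IsSolvable G := fun h => by
    obtain ⟨a, b, hab⟩ := hna
    exact hab (IsSimpleGroup.comm_iff_isSolvable.2 h a b)
  have hsymm : ∀ x y, y ∈ K x ↔ x ∈ K y := fun x y => by rw [hmem, hmem, Set.pair_comm]
  -- the common part of all solubilizers is trivial
  set R : Subgroup G := ⨅ x, K x with hR
  have hRn : R.Normal := by
    refine ⟨fun r hr g => mem_iInf.2 fun x => ?_⟩
    have h1 := mem_iInf.1 hr (g⁻¹ * x * g)
    rw [hmem] at h1 ⊢
    have e : closure ({x, g * r * g⁻¹} : Set G) =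
        (closure ({g⁻¹ * x * g, r} : Set G)).map (MulAut.conj g).toMonoidHom := by
      rw [MonoidHom.map_closure, Set.image_pair]
      simp [mul_assoc]
    rw [e]
    haveI := h1
    exact Group.isSolvable_of_surjective (MonoidHom.subgroupMap_surjective _ _)
  have hR1 : R = ⊥ := by
    refine (IsSimpleGroup.eq_bot_or_eq_top_of_normal R hRn).resolve_right fun ht => hns ?_
    obtain ⟨a, b, hab⟩ := exists_pair_generating hG hna hsol
    have h1 := (hmem a b).1 (mem_iInf.1 (ht.ge (mem_top b)) a)
    rw [hab] at h1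
    haveI := h1
    exact Group.isSolvable_of_surjective (f := (⊤ : Subgroup G).subtype) fun g => ⟨⟨g, mem_top g⟩, rfl⟩
  have hprop : ∀ a : G, a ≠ 1 → K a ≠ ⊤ := fun a ha ht => by
    refine ha (mem_bot.1 (hR1 ▸ mem_iInf.2 fun x => ?_))
    exact (hsymm a x).1 (ht.ge (mem_top x))
  -- every element lies in one maximal subgroup
  have hle : ∀ M : Subgroup G, M ≠ ⊤ → ∀ a ∈ M, M ≤ K a := fun M hM a ha y hy => by
    rw [hmem]
    haveI := hsol M hM
    exact Group.isSolvable_of_isSolvable_injective (Subgroup.inclusion_injective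
      ((closure_le M).2 (Set.insert_subset ha (Set.singleton_subset_iff.2 hy))))
  have huniq : ∀ M : Subgroup G, IsCoatom M → ∀ a ∈ M, a ≠ 1 → M = K a := fun M hM a ha ha1 =>
    ((hle M hM.1 a ha).eq_or_lt).elim id fun hlt => absurd (hM.2 _ hlt) (hprop a ha1)
  have hself : ∀ M : Subgroup G, IsCoatom M → M ≠ ⊥ → normalizer (M : Set G) = M := by
    intro M hM hM0
    rcases (le_normalizer (H := M)).eq_or_lt with h | h
    · exact h.symm
    · exact absurd ((IsSimpleGroup.eq_bot_or_eq_top_of_normal M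
        (normalizer_eq_top_iff.1 (hM.2 _ h))).resolve_left hM0) hM.1
  haveI := Fintype.ofFinite G
  have count : ∀ M : Subgroup G, IsCoatom M → M ≠ ⊥ → ∃ A : Finset G,
      A.card + M.index = Nat.card G ∧ (∀ x ∈ A, x ≠ 1) ∧
      (∀ x ∈ A, ∃ g : G, K x = MulAut.conj g • M) ∧
      (∀ g x : G, x ∈ MulAut.conj g • M → x ≠ 1 → x ∈ A) := by
    intro M hM hM0
    haveI := Fintype.ofFinite M
    haveI := Fintype.ofFinite (G ⧸ M)
    set f : (G ⧸ M) × {m : M // m ≠ 1} → G := fun z => z.1.out * (z.2.1 : G) * z.1.out⁻¹ with hf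
    have hK' : ∀ z, K (f z) = MulAut.conj z.1.out • M := by
      intro z
      refine (huniq _ ?_ _ ?_ ?_).symm
      · exact (OrderIso.isCoatom_iff (MulAut.conj z.1.out).mapSubgroup M).2 hM
      · exact ⟨_, z.2.1.2, rfl⟩
      · rw [hf, ne_eq, conj_eq_one_iff, OneMemClass.coe_eq_one]
        exact z.2.2
    have hinj : Function.Injective f := by
      intro z w he
      have h1 := hK' z
      rw [he, hK' w] at h1
      have hN : w.1.out⁻¹ * z.1.out ∈ normalizer (M : Set G) := by
        have e : MulAut.conj (w.1.out⁻¹ * z.1.out) • M = M := by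
          rw [map_mul, map_inv, mul_smul, ← h1, inv_smul_smul]
        exact Coprime.mem_normalizer_of_forall fun x hx => e.le ⟨x, hx, rfl⟩
      rw [hself M hM hM0] at hN
      have h2 : z.1 = w.1 := by
        rw [← z.1.out_eq', ← w.1.out_eq']
        exact (QuotientGroup.eq.2 hN).symm
      simp only [hf, h2, mul_left_inj, mul_right_inj] at he
      exact Prod.ext h2 (Subtype.ext (Subtype.ext he))
    refine ⟨Finset.univ.map ⟨f, hinj⟩, ?_, ?_, ?_, ?_⟩
    · rw [Finset.card_map, Finset.card_univ, Fintype.card_prod, Fintype.card_subtype_compl,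
        Fintype.card_subtype_eq, ← Nat.card_eq_fintype_card, ← Nat.card_eq_fintype_card, ← index,
        ← M.index_mul_card, Nat.mul_sub_one]
      exact Nat.sub_add_cancel (Nat.le_mul_of_pos_right _ Nat.card_pos)
    · intro x hx
      obtain ⟨z, -, rfl⟩ := Finset.mem_map.1 hx
      show f z ≠ 1
      rw [hf, ne_eq, conj_eq_one_iff, OneMemClass.coe_eq_one]
      exact z.2.2
    · intro x hx
      obtain ⟨z, -, rfl⟩ := Finset.mem_map.1 hx
      exact ⟨_, hK' z⟩
    · intro g x hx hx1
      rw [Coprime.mem_conj] at hx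
      set o := (QuotientGroup.mk g : G ⧸ M).out with ho'
      have ho : o⁻¹ * g ∈ M := QuotientGroup.eq.1 (QuotientGroup.out_eq' (QuotientGroup.mk g : G ⧸ M))
      have hm : o⁻¹ * x * o ∈ M := by
        have h1 := M.mul_mem (M.mul_mem ho hx) (M.inv_mem ho)
        rwa [show o⁻¹ * g * (g⁻¹ * x * g) * (o⁻¹ * g)⁻¹ = o⁻¹ * x * o by group] at h1
      refine Finset.mem_map.2 ⟨(QuotientGroup.mk g, ⟨⟨o⁻¹ * x * o, hm⟩, fun h => hx1 ?_⟩),
        Finset.mem_univ _, ?_⟩
      · have h' : o⁻¹ * x * o = 1 := congrArg Subtype.val h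
        calc x = o * (o⁻¹ * x * o) * o⁻¹ := by group
          _ = 1 := by rw [h', mul_one, mul_inv_cancel]
      · show o * (o⁻¹ * x * o) * o⁻¹ = x
        group
  obtain ⟨x0, hx0⟩ : ∃ x : G, x ≠ 1 := exists_ne 1
  have hcover : ∀ y : G, ∃ M : Subgroup G, IsCoatom M ∧ y ∈ M := by
    intro y
    obtain hbad | ⟨M', hM', hle'⟩ := eq_top_or_exists_le_coatom (zpowers y)
    · obtain ⟨a, b, hab⟩ := hna
      exfalso
      obtain ⟨i, rfl⟩ := mem_zpowers_iff.1 (hbad.ge (mem_top a))
      obtain ⟨j, rfl⟩ := mem_zpowers_iff.1 (hbad.ge (mem_top b))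
      exact hab ((Commute.refl y).zpow_zpow i j).eq
    · exact ⟨M', hM', hle' (mem_zpowers y)⟩
  obtain ⟨M, hM, hx0M⟩ := hcover x0
  have hM0 : M ≠ ⊥ := fun h => hx0 (mem_bot.1 (h ▸ hx0M))
  obtain ⟨A, hA, hA1, hAK, hAM⟩ := count M hM hM0
  have hidx : 2 * M.index ≤ Nat.card G := by
    rw [← M.index_mul_card, mul_comm]
    exact Nat.mul_le_mul_left _ ((one_lt_card_iff_ne_bot M).2 hM0)
  have hidx1 : 1 < M.index := one_lt_index_of_ne_top hM.1
  obtain ⟨y, hy1, hyA⟩ : ∃ y : G, y ≠ 1 ∧ y ∉ A := by
    by_contra hno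
    push_neg at hno
    have h1 : (Finset.univ.erase (1 : G)).card ≤ A.card :=
      Finset.card_le_card fun x hx => hno x (Finset.ne_of_mem_erase hx)
    rw [Finset.card_erase_of_mem (Finset.mem_univ _), Finset.card_univ, ← Nat.card_eq_fintype_card] at h1
    omega
  obtain ⟨M', hM', hyM'⟩ := hcover y
  have hM0' : M' ≠ ⊥ := fun h => hy1 (mem_bot.1 (h ▸ hyM'))
  obtain ⟨B, hB, hB1, hBK, -⟩ := count M' hM' hM0'
  have hidx' : 2 * M'.index ≤ Nat.card G := by
    rw [← M'.index_mul_card, mul_comm]
    exact Nat.mul_le_mul_left _ ((one_lt_card_iff_ne_bot M').2 hM0')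
  have hdisj : Disjoint A B := by
    refine Finset.disjoint_left.2 fun x hxA hxB => ?_
    obtain ⟨g, hg⟩ := hAK x hxA
    obtain ⟨k, hk⟩ := hBK x hxB
    -- then `y` lies in a conjugate of `M`
    have hyc : y ∈ MulAut.conj (k⁻¹ * g) • M := by
      rw [map_mul, map_inv, mul_smul, ← hg, hk, inv_smul_smul]
      exact hyM'
    exact hyA (hAM _ y hyc hy1)
  have h1 : A.card + B.card ≤ (Finset.univ.erase (1 : G)).card := by
    rw [← Finset.card_union_of_disjoint hdisj]
    refine Finset.card_le_card fun x hx => Finset.mem_erase.2 ⟨?_, Finset.mem_univ _⟩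
    rcases Finset.mem_union.1 hx with hx | hx
    · exact hA1 x hx
    · exact hB1 x hx
  rw [Finset.card_erase_of_mem (Finset.mem_univ _), Finset.card_univ, ← Nat.card_eq_fintype_card] at h1
  have := Nat.card_pos (α := G)
  omega

end Cfsg.Agent.TwoGen
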