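import Cfsg.Agent.Lib.TwoGen.Stable
import Cfsg.Agent.Lib.Transfer.Residual
import Cfsg.Agent.Lib.Coprime.Factorization
import Cfsg.Agent.Lib.Coprime.PQ
import Cfsg.Agent.Lib.Signalizer.PAction
import Cfsg.Agent.Lib.GWKlein.Functor
import Cfsg.Agent.Lib.Coprime.Generation

/-!
A minimal simple group in which every two elements generate a proper subgroup, `p ≥ 5`.

* `Hyp`, `zj`, `omega`, `Elt`, `rp`
* `Hyp.mem_omega` : `omega S` is strongly closed, in the form "conjugates inside `S` stay inside"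
* `Hyp.mk_mem_pCore` : such elements lie in `O_{p',p}` of every proper subgroup containing them
* `Hyp.exists_partner` : two of them commute after conjugation inside `O_p'` of what they generate
* `Hyp.product_cases` : their product is `p`-regular or conjugate to `e c`, `c ∈ O_p'(C(e))`
-/

set_option autoImplicit false
set_option linter.unusedSectionVars false
set_option linter.style.haveILetI false

open scoped Pointwise commutatorElement

namespace Cfsg.Agent.TwoGen

open Subgroup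

universe u

variable {G : Type u} [Group G] [Finite G] {p : ℕ}

/-- The hypotheses. -/
structure Hyp (G : Type u) [Group G] [Finite G] (p : ℕ) : Prop where
  three_lt : 3 < p
  simple : IsSimpleGroup G
  solvable : ∀ H : Subgroup G, H ≠ ⊤ → Group.IsSolvable H
  pair : ∀ a b : G, closure ({a, b} : Set G) ≠ ⊤
  nonab : ∃ a b : G, a * b ≠ b * a

/-- `Ω₁(Z(J(S)))`. -/
def omega (S : Sylow p G) : Subgroup G where
  carrier := {x | x ∈ Cfsg.centerThompsonAOf (S : Subgroup G) ∧ x ^ p = 1}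
  one_mem' := ⟨one_mem _, one_pow p⟩
  mul_mem' := fun {a b} ha hb => ⟨mul_mem ha.1 hb.1, by
    have hc : Commute a b := (mem_centralizer_iff.1 ha.1.2 b hb.1.1).symm
    rw [hc.mul_pow, ha.2, hb.2, one_mul]⟩
  inv_mem' := fun {a} ha => ⟨inv_mem ha.1, by rw [inv_pow, ha.2, inv_one]⟩

theorem omega_le (S : Sylow p G) : omega S ≤ (S : Subgroup G) := fun _ hx =>
  PStab.centerThompsonAOf_le _ hx.1

theorem omega_commute (S : Sylow p G) {x y : G} (hx : x ∈ omega S) (hy : y ∈ omega S) :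
    x * y = y * x :=
  (mem_centralizer_iff.1 hx.1.2 y hy.1.1).symm

/-- The conjugates of the members of `omega S`. -/
def Elt (S : Sylow p G) (x : G) : Prop := x ^ p = 1 ∧ ∃ g : G, g * x * g⁻¹ ∈ omega S

/-- `O_p'(H)` in the ambient group. -/
def rp (p : ℕ) (H : Subgroup G) : Subgroup G := (Cfsg.pPrimeCore p H).map H.subtype

theorem rp_le (H : Subgroup G) : rp p H ≤ H := map_subtype_le _

theorem le_normalizer_rp (H : Subgroup G) : H ≤ normalizer ((rp p H : Subgroup G) : Set G) := by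
  haveI : (Cfsg.pPrimeCore p H).Characteristic := inferInstance
  exact le_normalizer.trans (Cores.normalizer_le_normalizer_map _)

theorem coprime_rp [Fact p.Prime] (H : Subgroup G) : (Nat.card (rp p H)).Coprime p := by
  rw [rp, Cores.card_map_subtype]
  exact Cores.coprime_card_pPrimeCore p

theorem not_dvd_rp [Fact p.Prime] (H : Subgroup G) : ¬ p ∣ Nat.card (rp p H) := fun h =>
  (Fact.out : p.Prime).one_lt.ne' (Nat.eq_one_of_dvd_coprimes (coprime_rp H).symm dvd_rfl h)

theorem coprime_orderOf_rp [Fact p.Prime] {H : Subgroup G} {x : G} (hx : x ∈ rp p H) :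
    (orderOf x).Coprime p := by
  refine (coprime_rp (p := p) H).coprime_dvd_left ?_
  rw [← Subgroup.orderOf_mk x hx]
  exact orderOf_dvd_natCard _

theorem mem_rp_iff {H : Subgroup G} {x : G} (hx : x ∈ H) :
    x ∈ rp p H ↔ (QuotientGroup.mk ⟨x, hx⟩ : H ⧸ Cfsg.pPrimeCore p H) = 1 := by
  rw [QuotientGroup.eq_one_iff]
  exact ⟨fun ⟨y, hy, he⟩ => (Subtype.ext he : y = ⟨x, hx⟩) ▸ hy, fun h => ⟨_, h, rfl⟩⟩

/-- A `p`-power element of order prime to `p` is trivial. -/
theorem eq_one_of_pow {M : Type*} [Monoid M] {x : M} {k : ℕ} (hk : x ^ p ^ k = 1)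
    (hc : (orderOf x).Coprime p) : x = 1 :=
  orderOf_eq_one_iff.1 (Nat.eq_one_of_dvd_coprimes (hc.pow_right k) dvd_rfl
    (orderOf_dvd_of_pow_eq_one hk))

/-- In a `p`-core, an element of order prime to `p` is trivial. -/
theorem eq_one_of_mem_pCore {M : Type*} [Group M] [Finite M] {x : M} (hx : x ∈ Cfsg.pCore p M)
    (hc : (orderOf x).Coprime p) : x = 1 := by
  obtain ⟨k, hk⟩ := Cores.isPGroup_pCore p M ⟨x, hx⟩
  exact eq_one_of_pow (congrArg Subtype.val hk) hc

namespace Hyp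

variable [Fact p.Prime] {S : Sylow p G} (h : Hyp G p)
include h

theorem ne_top_of_pair (a b : G) : closure ({a, b} : Set G) ≠ ⊤ := h.pair a b

theorem centralizer_ne_top {x : G} (hx : x ≠ 1) : centralizer ({x} : Set G) ≠ ⊤ := fun he => by
  haveI := h.simple
  have hx' : x ∈ center G := mem_center_iff.2 fun g =>
    (mem_centralizer_iff.1 (he.ge (mem_top g)) x rfl).symm
  rcases IsSimpleGroup.eq_bot_or_eq_top_of_normal (center G) inferInstance with h1 | h1
  · rw [h1, mem_bot] at hx'; exact hx hx'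
  · obtain ⟨a, b, hab⟩ := h.nonab
    exact hab ((mem_center_iff.1 (h1.ge (mem_top a)) b).symm)

theorem ctl : PStab.Ctl p G :=
  PStab.ctl (by have := h.three_lt; omega) G (by
    haveI := h.simple
    exact isNormalizerPStable_of_minimal h.three_lt h.solvable)

/-- Strong closure of `omega S`. -/
theorem mem_omega {x : G} (hx : Elt S x) (hxS : x ∈ (S : Subgroup G)) : x ∈ omega S := by
  obtain ⟨hxp, g, hg⟩ := hx
  obtain ⟨n, hn, he⟩ := h.ctl S {x} g (Set.singleton_subset_iff.2 hxS)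
    (by rw [Set.image_singleton]; exact Set.singleton_subset_iff.2 (omega_le S hg))
  have h1 : n * x * n⁻¹ ∈ Cfsg.centerThompsonAOf (S : Subgroup G) := by
    rw [he x rfl]; exact hg.1
  exact ⟨(mem_normalizer_iff.1 hn x).2 h1, hxp⟩

theorem elt_conj {x : G} (hx : Elt S x) (g : G) : Elt S (g * x * g⁻¹) := by
  obtain ⟨hxp, k, hk⟩ := hx
  refine ⟨by rw [conj_pow, hxp, mul_one, mul_inv_cancel], k * g⁻¹, ?_⟩
  rwa [show k * g⁻¹ * (g * x * g⁻¹) * (k * g⁻¹)⁻¹ = k * x * k⁻¹ by group]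

theorem elt_of_mem {x : G} (hx : x ∈ omega S) : Elt S x := ⟨hx.2, 1, by simpa using hx⟩

theorem elt_pow {x : G} (hx : Elt S x) (n : ℕ) : Elt S (x ^ n) := by
  obtain ⟨hxp, k, hk⟩ := hx
  refine ⟨by rw [← pow_mul, mul_comm, pow_mul, hxp, one_pow], k, ?_⟩
  rw [← conj_pow]
  exact pow_mem hk n

/-- Inside a `p`-subgroup all of them lie in one abelian subgroup normalised by it. -/
theorem exists_abelian {U : Subgroup G} (hU : IsPGroup p U) :
    ∃ B ≤ U, IsMulCommutative B ∧ U ≤ normalizer (B : Set G) ∧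
      (∀ x ∈ U, Elt S x → x ∈ B) ∧ ∀ x ∈ B, Elt S x := by
  obtain ⟨T, hT⟩ := hU.exists_le_sylow
  obtain ⟨g, hg⟩ := MulAction.exists_smul_eq G S T
  have hTeq : (T : Subgroup G) = MulAut.conj g • (S : Subgroup G) := by rw [← hg]; rfl
  have hSn : (S : Subgroup G) ≤ normalizer ((omega S : Subgroup G) : Set G) := fun s hs => by
    refine Coprime.mem_normalizer_of_forall fun x hx => ?_
    exact h.mem_omega (h.elt_conj (h.elt_of_mem hx) s) (mul_mem (mul_mem hs (omega_le S hx)) (inv_mem hs))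
  have helt : ∀ x ∈ (MulAut.conj g • omega S : Subgroup G), Elt S x := fun x hx => by
    rw [Coprime.mem_conj] at hx
    have := h.elt_conj (h.elt_of_mem hx) g
    simpa [mul_assoc] using this
  refine ⟨U ⊓ MulAut.conj g • omega S, inf_le_left, ⟨⟨fun a b => Subtype.ext ?_⟩⟩, ?_, ?_,
    fun x hx => helt x hx.2⟩
  · have ha := Coprime.mem_conj.1 a.2.2
    have hb := Coprime.mem_conj.1 b.2.2
    have := omega_commute S ha hb
    show (a : G) * b = b * a
    calc (a : G) * b = g * ((g⁻¹ * a * g) * (g⁻¹ * b * g)) * g⁻¹ := by group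
      _ = g * ((g⁻¹ * b * g) * (g⁻¹ * a * g)) * g⁻¹ := by rw [this]
      _ = b * a := by group
  · intro u hu
    refine Coprime.mem_normalizer_of_forall fun x hx => ⟨U.mul_mem (U.mul_mem hu hx.1) (U.inv_mem hu), ?_⟩
    have hu' : g⁻¹ * u * g ∈ (S : Subgroup G) := Coprime.mem_conj.1 (hTeq.le (hT hu))
    have hx' := Coprime.mem_conj.1 hx.2
    show _ ∈ (MulAut.conj g • omega S : Subgroup G)
    rw [Coprime.mem_conj]
    have := (mem_normalizer_iff.1 (hSn hu') _).1 hx'
    simpa [mul_assoc] using this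
  · intro x hx hxE
    refine ⟨hx, ?_⟩
    show _ ∈ (MulAut.conj g • omega S : Subgroup G)
    rw [Coprime.mem_conj]
    have hxS : g⁻¹ * x * g ∈ (S : Subgroup G) := Coprime.mem_conj.1 (hTeq.le (hT hx))
    refine h.mem_omega ?_ hxS
    have := h.elt_conj hxE g⁻¹
    simpa using this

theorem commute_of_pGroup {U : Subgroup G} (hU : IsPGroup p U) {x y : G} (hx : x ∈ U) (hy : y ∈ U)
    (hxE : Elt S x) (hyE : Elt S y) : x * y = y * x := by
  obtain ⟨B, -, hB, -, hB', -⟩ := h.exists_abelian (S := S) hU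
  exact congrArg Subtype.val (hB.is_comm.comm ⟨x, hB' x hx hxE⟩ ⟨y, hB' y hy hyE⟩)

theorem elt_mul {x y : G} (hxE : Elt S x) (hyE : Elt S y) (hxy : x * y = y * x) : Elt S (x * y) := by
  have hU : IsPGroup p (closure ({x, y} : Set G)) := by
    have hz : ∀ z : G, z ^ p = 1 → IsPGroup p (zpowers z) := fun z hz =>
      Signalizer.isPGroup_zpowers_of_pow_eq_one hz
    rw [show closure ({x, y} : Set G) = zpowers x ⊔ zpowers y by
      rw [← Set.singleton_union, Subgroup.closure_union, zpowers_eq_closure, zpowers_eq_closure]]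
    refine (hz x hxE.1).to_sup_of_normal_right' (hz y hyE.1) ?_
    refine (zpowers_le.2 ?_)
    refine centralizer_le_normalizer _ (mem_centralizer_iff.2 fun w hw => ?_)
    obtain ⟨n, rfl⟩ := hw
    exact ((show Commute y x from hxy.symm).zpow_left n).eq
  obtain ⟨B, -, -, -, hB', hB''⟩ := h.exists_abelian (S := S) hU
  exact hB'' _ (mul_mem (hB' x (subset_closure (by simp)) hxE) (hB' y (subset_closure (by simp)) hyE))

/-- They lie in `O_{p',p}` of proper subgroups containing them. -/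
theorem mk_mem_pCore {H : Subgroup G} (hH : H ≠ ⊤) {x : G} (hx : x ∈ H) (hxE : Elt S x) :
    (QuotientGroup.mk ⟨x, hx⟩ : H ⧸ Cfsg.pPrimeCore p H) ∈
      Cfsg.pCore p (H ⧸ Cfsg.pPrimeCore p H) := by
  haveI := h.solvable H hH
  have hxp : (⟨x, hx⟩ : H) ^ p = 1 := Subtype.ext hxE.1
  obtain ⟨T, hT⟩ := (Signalizer.isPGroup_zpowers_of_pow_eq_one hxp).exists_le_sylow
  set f := QuotientGroup.mk' (Cfsg.pPrimeCore p H) with hf
  have hU : IsPGroup p ((T : Subgroup H).map H.subtype) := T.2.map _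
  obtain ⟨B, hBU, hB, hUB, hB', -⟩ := h.exists_abelian (S := S) hU
  have hOT : Cfsg.pCore p (H ⧸ Cfsg.pPrimeCore p H) ≤ (T : Subgroup H).map f := by
    have := Cores.pCore_le_sylow (T.mapSurjective (f := f) (QuotientGroup.mk'_surjective _))
    simpa using this
  refine le_pCore_of_abelian_normal h.three_lt (Cores.pPrimeCore_quotient_self p)
    (B := (B.subgroupOf H).map f) hOT ⟨⟨?_⟩⟩ ?_ (mem_map_of_mem f (hB' x ?_ hxE : (⟨x, hx⟩ : H) ∈ B.subgroupOf H))
  · rintro ⟨_, a, ha, rfl⟩ ⟨_, b, hb, rfl⟩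
    refine Subtype.ext ?_
    show f a * f b = f b * f a
    rw [← map_mul, ← map_mul]
    congr 1
    exact Subtype.ext (show (a : G) * b = b * a from
      congrArg (Subtype.val : B → G) (hB.is_comm.comm ⟨a, ha⟩ ⟨b, hb⟩))
  · refine (map_mono ?_).trans (le_normalizer_map f)
    intro t ht
    refine mem_normalizer_iff.2 fun b => ?_
    simp only [mem_subgroupOf, Subgroup.coe_mul, InvMemClass.coe_inv]
    exact mem_normalizer_iff.1 (hUB ⟨t, ht, rfl⟩) b
  · exact ⟨⟨x, hx⟩, hT (mem_zpowers _), rfl⟩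

/-- What such elements generate maps into `O_p` modulo `O_p'`. -/
theorem closure_mem_pCore {H : Subgroup G} (hH : H ≠ ⊤) {s : Set G} (hs : ∀ x ∈ s, x ∈ H ∧ Elt S x)
    {w : G} (hw : w ∈ closure s) (hwH : w ∈ H) :
    (QuotientGroup.mk ⟨w, hwH⟩ : H ⧸ Cfsg.pPrimeCore p H) ∈
      Cfsg.pCore p (H ⧸ Cfsg.pPrimeCore p H) := by
  have hle : closure s ≤ ((Cfsg.pCore p (H ⧸ Cfsg.pPrimeCore p H)).comap
      (QuotientGroup.mk' _)).map H.subtype := (closure_le _).2 fun x hx =>
    ⟨⟨x, (hs x hx).1⟩, h.mk_mem_pCore hH (hs x hx).1 (hs x hx).2, rfl⟩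
  obtain ⟨v, hv, he⟩ := hle hw
  rw [← (Subtype.ext he : v = ⟨w, hwH⟩)]
  exact hv

/-- In `H = ⟨a, y⟩` some conjugate of `y` by `O_p'(H)` commutes with `a`. -/
theorem exists_partner {a y : G} (ha : Elt S a) (hy : Elt S y) :
    ∃ d ∈ rp p (closure ({a, y} : Set G)), a * (d * y * d⁻¹) = (d * y * d⁻¹) * a := by
  set H := closure ({a, y} : Set G) with hHdef
  have hH : H ≠ ⊤ := h.pair a y
  have haH : a ∈ H := subset_closure (by simp)
  have hyH : y ∈ H := subset_closure (by simp)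
  set f := QuotientGroup.mk' (Cfsg.pPrimeCore p H) with hf
  have hap : (⟨a, haH⟩ : H) ^ p = 1 := Subtype.ext ha.1
  obtain ⟨T, hT⟩ := (Signalizer.isPGroup_zpowers_of_pow_eq_one hap).exists_le_sylow
  set R := Cfsg.pPrimeCore p H with hR
  haveI : R.Normal := inferInstance
  have hyT : (⟨y, hyH⟩ : H) ∈ R ⊔ (T : Subgroup H) := by
    have h1 := h.mk_mem_pCore hH hyH hy
    have h2 : f ⟨y, hyH⟩ ∈ (T : Subgroup H).map f := by
      have := Cores.pCore_le_sylow (T.mapSurjective (f := f) (QuotientGroup.mk'_surjective _)) h1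
      exact this
    obtain ⟨t, ht, he⟩ := h2
    obtain ⟨r, hr, hre⟩ : ∃ r ∈ R, r * t = ⟨y, hyH⟩ := ⟨(⟨y, hyH⟩ : H) * t⁻¹, by
      rw [← QuotientGroup.eq_one_iff]
      show f _ = 1
      rw [map_mul, map_inv, ← he, mul_inv_cancel], by rw [inv_mul_cancel_right]⟩
    rw [← hre]
    exact mul_mem_sup hr ht
  set K := R ⊔ (T : Subgroup H) with hK
  have hyp : (⟨y, hyH⟩ : H) ^ p = 1 := Subtype.ext hy.1
  obtain ⟨Y, hY⟩ := ((Signalizer.isPGroup_zpowers_of_pow_eq_one hyp).comap_subtype (K := K)).exists_le_sylow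
  have hTK : (T : Subgroup H) ≤ K := le_sup_right
  obtain ⟨k, hk⟩ := MulAction.exists_smul_eq K Y (T.subtype hTK)
  obtain ⟨r, hr, t, ht, hrt⟩ := (Coprime.mem_sup_iff
    (le_normalizer_of_normal : (T : Subgroup H) ≤ normalizer (R : Set H))).1 k.2
  have hky : (k : H) * ⟨y, hyH⟩ * (k : H)⁻¹ ∈ (T : Subgroup H) := by
    have h1 : (⟨⟨y, hyH⟩, hyT⟩ : K) ∈ (Y : Subgroup K) := hY (mem_zpowers (⟨y, hyH⟩ : H))
    have h2 : k * ⟨⟨y, hyH⟩, hyT⟩ * k⁻¹ ∈ ((k • Y : Sylow p K) : Subgroup K) := by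
      rw [Sylow.coe_subgroup_smul]
      exact ⟨_, h1, rfl⟩
    rw [hk] at h2
    simpa [mem_subgroupOf] using h2
  have hr' : t⁻¹ * r * t ∈ R := by simpa using (inferInstance : R.Normal).conj_mem r hr t⁻¹
  refine ⟨((t⁻¹ * r * t : H) : G), ⟨_, hr', rfl⟩, ?_⟩
  have hz : (t⁻¹ * r * t) * ⟨y, hyH⟩ * (t⁻¹ * r * t)⁻¹ ∈ (T : Subgroup H) := by
    have := mul_mem (mul_mem (inv_mem ht) hky) ht
    rw [← hrt] at this
    convert this using 1
    group
  exact h.commute_of_pGroup (T.2.map H.subtype) ⟨_, hT (mem_zpowers _), rfl⟩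
    ⟨_, hz, by simp⟩ ha (h.elt_conj hy _)

theorem mk_eq_mul {a y d : G} (hd : d ∈ rp p (closure ({a, y} : Set G))) :
    (a * y)⁻¹ * (a * (d * y * d⁻¹)) ∈ rp p (closure ({a, y} : Set G)) := by
  set H := closure ({a, y} : Set G) with hHdef
  have hy : y ∈ H := subset_closure (by simp)
  rw [show (a * y)⁻¹ * (a * (d * y * d⁻¹)) = (y⁻¹ * d * y) * d⁻¹ by group]
  exact mul_mem ((mem_normalizer_iff''.1 (le_normalizer_rp H hy) d).1 hd) (inv_mem hd)

/-- The product is `p`-regular exactly when the partner is the inverse. -/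
theorem not_dvd_iff {a y d : G} (ha : Elt S a) (hy : Elt S y)
    (hd : d ∈ rp p (closure ({a, y} : Set G))) (hc : a * (d * y * d⁻¹) = (d * y * d⁻¹) * a) :
    ¬ p ∣ orderOf (a * y) ↔ a * (d * y * d⁻¹) = 1 := by
  set H := closure ({a, y} : Set G) with hHdef
  have hu : a * y ∈ H := mul_mem (subset_closure (by simp)) (subset_closure (by simp))
  have hk := h.mk_eq_mul (a := a) (y := y) hd
  have he : a * (d * y * d⁻¹) ∈ H := by
    have := mul_mem hu (rp_le H hk)
    rwa [mul_inv_cancel_left] at this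
  have heq : (QuotientGroup.mk ⟨a * y, hu⟩ : H ⧸ Cfsg.pPrimeCore p H) =
      QuotientGroup.mk ⟨a * (d * y * d⁻¹), he⟩ := by
    rw [QuotientGroup.eq]
    exact (QuotientGroup.eq_one_iff _).1 ((mem_rp_iff (H.mul_mem (H.inv_mem hu) he)).1 hk)
  constructor
  · intro hnd
    have hco : (orderOf (a * y)).Coprime p :=
      ((Fact.out : p.Prime).coprime_iff_not_dvd.2 hnd).symm
    have h1 : (QuotientGroup.mk ⟨a * y, hu⟩ : H ⧸ Cfsg.pPrimeCore p H) = 1 := by
      refine eq_one_of_pow (k := 1) (p := p) ?_ (hco.coprime_dvd_left ?_)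
      · rw [heq, pow_one, ← QuotientGroup.mk_pow]
        refine (QuotientGroup.eq_one_iff _).2 ?_
        have : (⟨a * (d * y * d⁻¹), he⟩ : H) ^ p = 1 :=
          Subtype.ext (h.elt_mul ha (h.elt_conj hy d) hc).1
        rw [this]
        exact one_mem _
      · have := orderOf_map_dvd (QuotientGroup.mk' (Cfsg.pPrimeCore p H)) (⟨a * y, hu⟩ : H)
        rwa [Subgroup.orderOf_mk] at this
    have h2 : a * (d * y * d⁻¹) ∈ rp p H := (mem_rp_iff he).2 (heq.symm.trans h1)
    exact eq_one_of_pow (k := 1) (p := p) (by rw [pow_one]; exact (h.elt_mul ha (h.elt_conj hy d) hc).1)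
      (coprime_orderOf_rp h2)
  · intro h1 hdvd
    have h2 : a * y ∈ rp p H := by
      have := inv_mem hk
      rwa [h1, mul_one, inv_inv] at this
    exact (Fact.out : p.Prime).one_lt.ne'
      (Nat.eq_one_of_dvd_coprimes (coprime_orderOf_rp h2) hdvd dvd_rfl)

/-- The key step. -/
theorem mem_rp_centralizer_of_commute {a y d e c : G} (ha : Elt S a) (hy : Elt S y)
    (hd : d ∈ rp p (closure ({a, y} : Set G))) (hz : a * (d * y * d⁻¹) = (d * y * d⁻¹) * a)
    (he : e = a * (d * y * d⁻¹)) (he1 : e ≠ 1)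
    (hc : c ∈ rp p (closure ({a, y} : Set G))) (hca : Commute c a)
    (hcz : Commute c (d * y * d⁻¹)) : c ∈ rp p (centralizer ({e} : Set G)) := by
  set z := d * y * d⁻¹ with hzdef
  set H := closure ({a, y} : Set G) with hHdef
  set C := centralizer ({e} : Set G) with hCdef
  have hC : C ≠ ⊤ := h.centralizer_ne_top he1
  haveI := h.solvable C hC
  have hmemC : ∀ {x : G}, Commute x a → Commute x z → x ∈ C := fun hxa hxz =>
    mem_centralizer_iff.2 fun w hw => by
      rw [Set.mem_singleton_iff.1 hw, he]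
      exact (hxa.mul_right hxz).symm.eq
  have haC : a ∈ C := hmemC (Commute.refl a) hz
  have hzC : z ∈ C := hmemC hz.symm (Commute.refl z)
  have hcC : c ∈ C := hmemC hca hcz
  set f := QuotientGroup.mk' (Cfsg.pPrimeCore p C) with hf
  set P := Cfsg.pCore p (C ⧸ Cfsg.pPrimeCore p C) with hP
  haveI : P.Normal := Cores.pCore_normal p _
  have hcp : (orderOf c).Coprime p := coprime_orderOf_rp hc
  -- conjugation by a lift centralising `a` and `z`
  have step : ∀ s (hs : s ∈ C), Commute s a → Commute s z → f ⟨s, hs⟩ ∈ P →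
      f ⟨c, hcC⟩ * f ⟨s, hs⟩ = f ⟨s, hs⟩ * f ⟨c, hcC⟩ := by
    intro s hs hsa hsz hsP
    set c' := s⁻¹ * c * s with hc'
    set c1 := d⁻¹ * c' * d with hc1
    have hc'a : Commute c' a := (hsa.inv_left.mul_left hca).mul_left hsa
    have hc'z : Commute c' z := (hsz.inv_left.mul_left hcz).mul_left hsz
    have hc1y : Commute c1 y := by
      have := hc'z.map (MulAut.conj d⁻¹).toMonoidHom
      simp only [MulEquiv.coe_toMonoidHom, MulAut.conj_apply, inv_inv] at this
      rw [hzdef, show d⁻¹ * (d * y * d⁻¹) * d = y by group] at this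
      exact this
    have ho : orderOf c1 = orderOf c := by
      have e1 : c1 = (s * d)⁻¹ * c * (s * d) := by rw [hc1, hc']; group
      rw [e1]
      simpa [mul_assoc] using (MulAut.conj (s * d)⁻¹).orderOf_eq c
    set H1 := closure ({a * c, y * c1} : Set G) with hH1def
    have hH1 : H1 ≠ ⊤ := h.pair _ _
    have split : ∀ {u v : G}, Commute u v → u ^ p = 1 → (orderOf v).Coprime p →
        u * v ∈ H1 → u ∈ H1 ∧ v ∈ H1 := by
      intro u v huv hu hv huvm
      have hv' : v ∈ H1 := by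
        have h1 : (u * v) ^ p = v ^ p := by rw [huv.mul_pow, hu, one_mul]
        obtain ⟨m, hm⟩ := exists_pow_eq_self_of_coprime (x := v) (n := p) hv.symm
        rw [← hm, ← h1]
        exact pow_mem (pow_mem huvm p) m
      exact ⟨by simpa using H1.mul_mem huvm (H1.inv_mem hv'), hv'⟩
    obtain ⟨haH1, hcH1⟩ := split hca.symm ha.1 hcp (subset_closure (by simp))
    obtain ⟨hyH1, hc1H1⟩ := split hc1y.symm hy.1 (ho ▸ hcp) (subset_closure (by simp))
    have hHH1 : H ≤ H1 := (closure_le _).2 (Set.insert_subset haH1 (Set.singleton_subset_iff.2 hyH1))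
    have hdH1 : d ∈ H1 := hHH1 (rp_le H hd)
    have hc'H1 : c' ∈ H1 := by
      rw [show c' = d * c1 * d⁻¹ by rw [hc1]; group]
      exact mul_mem (mul_mem hdH1 hc1H1) (inv_mem hdH1)
    have hcR1 : c ∈ rp p H1 := by
      rw [mem_rp_iff hcH1]
      refine eq_one_of_mem_pCore (p := p) (h.closure_mem_pCore (S := S) hH1 (s := {a, y}) ?_ (rp_le H hc) hcH1)
        (hcp.coprime_dvd_left ?_)
      · rintro x (rfl | rfl)
        · exact ⟨haH1, ha⟩
        · exact ⟨hyH1, hy⟩
      · have := orderOf_map_dvd (QuotientGroup.mk' (Cfsg.pPrimeCore p H1)) (⟨c, hcH1⟩ : H1)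
        rwa [Subgroup.orderOf_mk] at this
    set w := c⁻¹ * c' with hw
    have hwH1 : w ∈ H1 := mul_mem (inv_mem hcH1) hc'H1
    have hc'C : c' ∈ C := hmemC hc'a hc'z
    have hwC : w ∈ C := mul_mem (inv_mem hcC) hc'C
    have hwP : f ⟨w, hwC⟩ ∈ P := by
      rw [show (⟨w, hwC⟩ : C) = ((⟨c, hcC⟩ : C)⁻¹ * ⟨s, hs⟩⁻¹ * ⟨c, hcC⟩) * ⟨s, hs⟩ from
        Subtype.ext (by simp [hw, hc', mul_assoc]), map_mul, map_mul, map_mul, map_inv, map_inv]
      refine mul_mem ?_ hsP
      simpa using (inferInstance : P.Normal).conj_mem _ (inv_mem hsP) (f ⟨c, hcC⟩)⁻¹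
    obtain ⟨wp, wq, hwpq, hwp, hwq, ⟨k, hk⟩, hwqo⟩ := Transfer.exists_pPart_mul (p := p) w
    -- the `p`-part vanishes in `H1`
    have hwp1 : wp = 1 := by
      refine eq_one_of_pow (k := k) (p := p) (by rw [← hk]; exact pow_orderOf_eq_one wp)
        (coprime_orderOf_rp (H := H1) ?_)
      have hwpH1 : wp ∈ H1 := (zpowers_le.2 hwH1) hwp
      rw [mem_rp_iff hwpH1]
      have hmk : (QuotientGroup.mk ⟨w, hwH1⟩ : H1 ⧸ Cfsg.pPrimeCore p H1) =
          QuotientGroup.mk ⟨c', hc'H1⟩ := by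
        rw [show (⟨w, hwH1⟩ : H1) = ⟨c, hcH1⟩⁻¹ * ⟨c', hc'H1⟩ from rfl, QuotientGroup.mk_mul,
          QuotientGroup.mk_inv, (mem_rp_iff hcH1).1 hcR1, inv_one, one_mul]
      obtain ⟨n, hn⟩ := mem_zpowers_iff.1 hwp
      refine eq_one_of_pow (k := k) (p := p) ?_ ?_
      · rw [← QuotientGroup.mk_pow, ← hk]
        exact (QuotientGroup.eq_one_iff _).2 ((Subtype.ext (pow_orderOf_eq_one wp) :
          (⟨wp, hwpH1⟩ : H1) ^ orderOf wp = 1) ▸ one_mem _)
      · rw [show (⟨wp, hwpH1⟩ : H1) = ⟨w, hwH1⟩ ^ n from Subtype.ext (by simp [hn]),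
          QuotientGroup.mk_zpow, hmk, ← QuotientGroup.mk_zpow]
        refine Nat.Coprime.coprime_dvd_left ?_ hcp
        refine ((orderOf_map_dvd (QuotientGroup.mk' (Cfsg.pPrimeCore p H1)) _).trans
          (orderOf_dvd_of_pow_eq_one (n := orderOf c) ?_))
        have hoc : (⟨c', hc'H1⟩ : H1) ^ orderOf c = 1 := Subtype.ext (by
          have : orderOf c' = orderOf c := by
            rw [hc']
            simpa using (MulAut.conj s⁻¹).orderOf_eq c
          rw [Subgroup.coe_pow, ← this]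
          exact pow_orderOf_eq_one c')
        rw [← zpow_natCast, ← zpow_mul, mul_comm, zpow_mul, zpow_natCast, hoc, one_zpow]
    rw [hwp1, one_mul] at hwpq
    have h1 : f ⟨w, hwC⟩ = 1 := eq_one_of_mem_pCore (p := p) hwP (by
      refine Nat.Coprime.coprime_dvd_left ?_ (hwpq ▸ hwqo)
      have := orderOf_map_dvd f (⟨w, hwC⟩ : C)
      rwa [Subgroup.orderOf_mk] at this)
    have h2 : (⟨w, hwC⟩ : C) = ⟨c, hcC⟩⁻¹ * (⟨s, hs⟩⁻¹ * ⟨c, hcC⟩ * ⟨s, hs⟩) :=
      Subtype.ext (by simp [hw, hc', mul_assoc])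
    rw [h2, map_mul, map_mul, map_mul, map_inv, map_inv, inv_mul_eq_one] at h1
    calc f ⟨c, hcC⟩ * f ⟨s, hs⟩ = f ⟨s, hs⟩ * ((f ⟨s, hs⟩)⁻¹ * f ⟨c, hcC⟩ * f ⟨s, hs⟩) := by group
      _ = _ := by rw [← h1]
  set cbar := f ⟨c, hcC⟩ with hcbar
  set A := zpowers cbar with hA
  have haP : f ⟨a, haC⟩ ∈ P := h.mk_mem_pCore hC haC ha
  have hzP : f ⟨z, hzC⟩ ∈ P := h.mk_mem_pCore hC hzC (h.elt_conj hy d)
  have hcent : ∀ q ∈ P, (f ⟨a, haC⟩ * q = q * f ⟨a, haC⟩) → (f ⟨z, hzC⟩ * q = q * f ⟨z, hzC⟩) →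
      cbar * q = q * cbar := by
    intro q hq hqa hqz
    obtain ⟨q₀, rfl⟩ := QuotientGroup.mk'_surjective _ q
    set B := closure ({a, z} : Set G) with hBdef
    have hBC : B ≤ C := (closure_le _).2 (Set.insert_subset haC (Set.singleton_subset_iff.2 hzC))
    have hBp : IsPGroup p B := by
      rw [hBdef, show closure ({a, z} : Set G) = zpowers a ⊔ zpowers z by
        rw [← Set.singleton_union, Subgroup.closure_union, zpowers_eq_closure, zpowers_eq_closure]]
      refine (Signalizer.isPGroup_zpowers_of_pow_eq_one ha.1).to_sup_of_normal_right'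
        (Signalizer.isPGroup_zpowers_of_pow_eq_one (h.elt_conj hy d).1) (zpowers_le.2 ?_)
      refine centralizer_le_normalizer _ (mem_centralizer_iff.2 fun w hw => ?_)
      obtain ⟨n, rfl⟩ := hw
      exact ((show Commute z a from hz.symm).zpow_left n).eq
    have hgen : ∀ b ∈ B, b * q₀ * b⁻¹ * (q₀ : G)⁻¹ ∈ rp p C := by
      intro b hb
      have key : ∀ b' : C, (b' : G) ∈ B → f b' * f q₀ = f q₀ * f b' := by
        have hle : B ≤ ((centralizer ({f q₀} : Set (C ⧸ Cfsg.pPrimeCore p C))).comap f).map C.subtype :=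
          (closure_le _).2 (Set.insert_subset ⟨⟨a, haC⟩, mem_centralizer_iff.2 fun w hw => by
            rw [Set.mem_singleton_iff.1 hw]; exact hqa.symm, rfl⟩
            (Set.singleton_subset_iff.2 ⟨⟨z, hzC⟩, mem_centralizer_iff.2 fun w hw => by
            rw [Set.mem_singleton_iff.1 hw]; exact hqz.symm, rfl⟩))
        intro b' hb'
        obtain ⟨v, hv, hve⟩ := hle hb'
        rw [← (Subtype.ext hve : v = b')]
        exact ((mem_centralizer_iff.1 hv) _ rfl).symm
      have hk := key ⟨b, hBC hb⟩ hb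
      refine (mem_rp_iff (C.mul_mem (C.mul_mem (C.mul_mem (hBC hb) q₀.2) (C.inv_mem (hBC hb)))
        (C.inv_mem q₀.2))).2 ?_
      show f ((⟨b, hBC hb⟩ : C) * q₀ * ⟨b, hBC hb⟩⁻¹ * q₀⁻¹) = 1
      rw [map_mul, map_mul, map_mul, map_inv, map_inv, hk, mul_inv_cancel_right, mul_inv_cancel]
    obtain ⟨n, hn, hns⟩ := Signalizer.exists_fixed_in_coset hBp
      (hBC.trans (le_normalizer_rp C)) (not_dvd_rp C) (q₀ : G) hgen
    have hsC : n * (q₀ : G) ∈ C := mul_mem (rp_le C hn) q₀.2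
    have hfe : f ⟨n * q₀, hsC⟩ = f q₀ := by
      rw [show (⟨n * q₀, hsC⟩ : C) = ⟨n, rp_le C hn⟩ * q₀ from rfl, map_mul,
        show f ⟨n, rp_le C hn⟩ = 1 from (mem_rp_iff (rp_le C hn)).1 hn, one_mul]
    have := step _ hsC (mem_centralizer_iff.1 hns a (subset_closure (by simp))).symm
      (mem_centralizer_iff.1 hns z (subset_closure (by simp))).symm (hfe.symm ▸ hq)
    rwa [hfe] at this
  have hAP : A ≤ centralizer (P : Set _) := by
    refine Coprime.le_centralizer_of_centralizer_le (Cores.isPGroup_pCore p _).isNilpotent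
      (le_normalizer_of_normal) ?_ ?_
    · obtain ⟨n, hn⟩ := IsPGroup.iff_card.1 (Cores.isPGroup_pCore p (C ⧸ Cfsg.pPrimeCore p C))
      rw [hP, hn, Nat.card_zpowers]
      refine (Nat.Coprime.coprime_dvd_left ?_ hcp).pow_right n
      have := orderOf_map_dvd f (⟨c, hcC⟩ : C)
      rwa [Subgroup.orderOf_mk] at this
    · have hfix : ∀ x : C, (x : G) = a ∨ (x : G) = z → f x ∈ P ⊓ centralizer (A : Set _) := by
        intro x hx
        refine ⟨?_, mem_centralizer_iff.2 fun w hw => ?_⟩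
        · rcases hx with hx | hx
          · rw [show x = ⟨a, haC⟩ from Subtype.ext hx]; exact haP
          · rw [show x = ⟨z, hzC⟩ from Subtype.ext hx]; exact hzP
        · obtain ⟨n, rfl⟩ := hw
          refine ((?_ : Commute cbar (f x)).zpow_left n).eq
          show f _ * f x = f x * f _
          rw [← map_mul, ← map_mul]
          refine congrArg f (Subtype.ext ?_)
          rcases hx with hx | hx <;> simp only [Subgroup.coe_mul, hx]
          · exact hca.eq
          · exact hcz.eq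
      rintro q ⟨hqP, hqc⟩
      refine ⟨hqP, mem_centralizer_iff.2 fun w hw => ?_⟩
      obtain ⟨n, rfl⟩ := hw
      exact ((show Commute cbar q from hcent q hqP
        (mem_centralizer_iff.1 hqc _ (hfix ⟨a, haC⟩ (Or.inl rfl)))
        (mem_centralizer_iff.1 hqc _ (hfix ⟨z, hzC⟩ (Or.inr rfl)))).zpow_left n).eq
  have hin : cbar ∈ P := Solvable.centralizer_pCore_le_of_isSolvable (Cores.pPrimeCore_quotient_self p)
    (hAP (mem_zpowers cbar))
  rw [mem_rp_iff hcC]
  refine eq_one_of_mem_pCore (p := p) hin (hcp.coprime_dvd_left ?_)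
  have := orderOf_map_dvd f (⟨c, hcC⟩ : C)
  rwa [Subgroup.orderOf_mk] at this

/-- The part of `O_p'(⟨a, y⟩)` commuting with the product `e` lies in `O_p'(C(e))`. -/
theorem inf_centralizer_le {a y d e : G} (ha : Elt S a) (hy : Elt S y)
    (hd : d ∈ rp p (closure ({a, y} : Set G))) (hz : a * (d * y * d⁻¹) = (d * y * d⁻¹) * a)
    (he : e = a * (d * y * d⁻¹)) (he1 : e ≠ 1) :
    rp p (closure ({a, y} : Set G)) ⊓ centralizer ({e} : Set G) ≤
      rp p (centralizer ({e} : Set G)) := by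
  set z := d * y * d⁻¹ with hzdef
  set H := closure ({a, y} : Set G) with hHdef
  set C := centralizer ({e} : Set G) with hCdef
  have hC : C ≠ ⊤ := h.centralizer_ne_top he1
  set D := rp p H ⊓ C with hD
  set B := closure ({a, z} : Set G) with hBdef
  have haH : a ∈ H := subset_closure (by simp)
  have hzH : z ∈ H :=
    mul_mem (mul_mem (rp_le H hd) (subset_closure (by simp))) (inv_mem (rp_le H hd))
  have haC : a ∈ C := mem_centralizer_iff.2 fun w hw => by
    rw [Set.mem_singleton_iff.1 hw, he]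
    exact ((Commute.refl a).mul_left (show Commute z a from hz.symm)).eq
  have hzC : z ∈ C := mem_centralizer_iff.2 fun w hw => by
    rw [Set.mem_singleton_iff.1 hw, he]
    exact ((show Commute a z from hz).mul_left (Commute.refl z)).eq
  have hBH : B ≤ H := (closure_le _).2 (Set.insert_subset haH (Set.singleton_subset_iff.2 hzH))
  have hBC : B ≤ C := (closure_le _).2 (Set.insert_subset haC (Set.singleton_subset_iff.2 hzC))
  have hBD : B ≤ normalizer (D : Set G) := fun b hb => Coprime.mem_normalizer_of_forall fun x hx =>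
    ⟨(mem_normalizer_iff.1 (le_normalizer_rp H (hBH hb)) x).1 hx.1,
      C.mul_mem (C.mul_mem (hBC hb) hx.2) (C.inv_mem (hBC hb))⟩
  have hBp : IsPGroup p B := by
    rw [hBdef, show closure ({a, z} : Set G) = zpowers a ⊔ zpowers z by
      rw [← Set.singleton_union, Subgroup.closure_union, zpowers_eq_closure, zpowers_eq_closure]]
    refine (Signalizer.isPGroup_zpowers_of_pow_eq_one ha.1).to_sup_of_normal_right'
      (Signalizer.isPGroup_zpowers_of_pow_eq_one (h.elt_conj hy d).1) (zpowers_le.2 ?_)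
    refine centralizer_le_normalizer _ (mem_centralizer_iff.2 fun w hw => ?_)
    obtain ⟨n, rfl⟩ := hw
    exact ((show Commute z a from hz.symm).zpow_left n).eq
  have hcop : (Nat.card B).Coprime (Nat.card D) := by
    obtain ⟨n, hn⟩ := IsPGroup.iff_card.1 hBp
    rw [hn]
    exact ((coprime_rp (p := p) H).coprime_dvd_left (card_dvd_of_le inf_le_left)).symm.pow_left n
  rw [← Coprime.commutator_sup_centralizer hBD hcop (Or.inl (Coprime.isSolvable_of_isPGroup hBp))]
  refine sup_le ?_ fun c hc => h.mem_rp_centralizer_of_commute ha hy hd hz he he1 hc.1.1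
    (mem_centralizer_iff.1 hc.2 a (subset_closure (by simp))).symm
    (mem_centralizer_iff.1 hc.2 z (subset_closure (by simp))).symm
  rw [commutator_le]
  intro x hx b hb
  have hmem : ⁅x, b⁆ ∈ D := le_normalizer_iff_commutator_le_left.1 hBD
    (commutator_mem_commutator hx hb)
  rw [mem_rp_iff hmem.2]
  refine eq_one_of_mem_pCore (p := p) ?_ ((coprime_orderOf_rp hmem.1).coprime_dvd_left ?_)
  · rw [show (⟨⁅x, b⁆, hmem.2⟩ : C) = ⁅(⟨x, hx.2⟩ : C), ⟨b, hBC hb⟩⁆ from Subtype.ext rfl]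
    haveI : (Cfsg.pCore p (C ⧸ Cfsg.pPrimeCore p C)).Normal := Cores.pCore_normal p _
    have hbP := h.closure_mem_pCore (S := S) hC (s := {a, z}) (by
      rintro w (rfl | rfl)
      · exact ⟨haC, ha⟩
      · exact ⟨hzC, h.elt_conj hy d⟩) hb (hBC hb)
    show QuotientGroup.mk' _ _ ∈ _
    rw [map_commutatorElement, commutatorElement_def]
    refine mul_mem ?_ (inv_mem hbP)
    exact (inferInstance : (Cfsg.pCore p (C ⧸ Cfsg.pPrimeCore p C)).Normal).conj_mem _ hbP _
  · have := orderOf_map_dvd (QuotientGroup.mk' (Cfsg.pPrimeCore p C)) (⟨⁅x, b⁆, hmem.2⟩ : C)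
    rwa [Subgroup.orderOf_mk] at this

/-- The product of two of them. -/
theorem product_cases {a y : G} (ha : Elt S a) (hy : Elt S y) :
    ¬ p ∣ orderOf (a * y) ∨ ∃ e c k : G, Elt S e ∧ e ≠ 1 ∧ c ∈ rp p (centralizer ({e} : Set G)) ∧
      k * (a * y) * k⁻¹ = e * c := by
  obtain ⟨d, hd, hz⟩ := h.exists_partner ha hy
  by_cases he1 : a * (d * y * d⁻¹) = 1
  · exact Or.inl ((h.not_dvd_iff ha hy hd hz).2 he1)
  refine Or.inr ?_
  set H := closure ({a, y} : Set G) with hHdef
  set e := a * (d * y * d⁻¹) with he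
  have heE : Elt S e := h.elt_mul ha (h.elt_conj hy d) hz
  have hu : a * y ∈ H := mul_mem (subset_closure (by simp)) (subset_closure (by simp))
  have hk : (a * y)⁻¹ * e ∈ rp p H := h.mk_eq_mul (a := a) (y := y) hd
  have heH : e ∈ H := by
    have := mul_mem hu (rp_le H hk)
    rwa [mul_inv_cancel_left] at this
  obtain ⟨u, v, huv, huz, hvz, ⟨n, hn⟩, hvo⟩ := Transfer.exists_pPart_mul (p := p) (a * y)
  have hRn : zpowers e ≤ normalizer ((rp p H : Subgroup G) : Set G) :=
    zpowers_le.2 (le_normalizer_rp H heH)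
  have hue : zpowers (a * y) ≤ rp p H ⊔ zpowers e := by
    refine zpowers_le.2 ?_
    rw [sup_comm, show a * y = e * ((a * y)⁻¹ * e)⁻¹ by group]
    exact mul_mem_sup (mem_zpowers e) (inv_mem hk)
  obtain ⟨r, hr, i, hi, hri⟩ := (Coprime.mem_sup_iff hRn).1 (hue huz)
  -- conjugate `u` into `⟨e⟩`
  have hep : IsPGroup p (zpowers e) := Signalizer.isPGroup_zpowers_of_pow_eq_one heE.1
  have hup : IsPGroup p (zpowers u) :=
    IsPGroup.of_card (n := n) ((Nat.card_zpowers u).trans hn)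
  obtain ⟨g, hg, hge⟩ : ∃ g ∈ rp p H, g * u * g⁻¹ ∈ zpowers e := by
    have hcop : (Nat.card (zpowers u)).Coprime (Nat.card (rp p H)) := by
      rw [Nat.card_zpowers, hn]
      exact (coprime_rp (p := p) H).symm.pow_left n
    set W := rp p H ⊔ zpowers e with hW
    obtain ⟨T, hT⟩ := (hup.comap_subtype (K := W)).exists_le_sylow
    set E' := (zpowers e).subgroupOf W with hE'
    have hR' : (rp p H).subgroupOf W ⊔ E' = ⊤ := by
      rw [hE', ← subgroupOf_sup le_sup_left le_sup_right, subgroupOf_self]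
    have hWn : W ≤ normalizer ((rp p H : Subgroup G) : Set G) := sup_le le_normalizer hRn
    haveI : ((rp p H).subgroupOf W).Normal := (normal_subgroupOf_iff_le_normalizer le_sup_left).2 hWn
    have hE'p : IsPGroup p E' := hep.comap_subtype
    have hidx : ¬ p ∣ E'.index := by
      intro hdvd
      have h1 : E'.index ∣ Nat.card ((rp p H).subgroupOf W) := by
        have h2 := Cores.card_sup_dvd E' ((rp p H).subgroupOf W)
        rw [sup_comm, hR', card_top, ← card_mul_index E'] at h2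
        exact Nat.dvd_of_mul_dvd_mul_left Nat.card_pos h2
      rw [Cores.card_subgroupOf (le_sup_left : rp p H ≤ W)] at h1
      exact not_dvd_rp H (hdvd.trans h1)
    obtain ⟨k, hk⟩ := MulAction.exists_smul_eq W T (hE'p.toSylow hidx)
    obtain ⟨r', hr', t', ht', hrt⟩ := mem_sup_of_normal_left.1 (hR'.ge (mem_top k))
    have hku : k * ⟨u, hue huz⟩ * k⁻¹ ∈ E' := by
      have h2 : k * ⟨u, hue huz⟩ * k⁻¹ ∈ ((k • T : Sylow p W) : Subgroup W) := by
        rw [Sylow.coe_subgroup_smul]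
        exact ⟨_, hT (mem_zpowers u), rfl⟩
      rw [hk] at h2
      exact h2
    refine ⟨((t'⁻¹ * r' * t' : W) : G), ?_, ?_⟩
    · have := (inferInstance : ((rp p H).subgroupOf W).Normal).conj_mem r' hr' t'⁻¹
      rw [inv_inv] at this
      exact this
    · have := mul_mem (mul_mem (inv_mem ht') hku) ht'
      rw [← hrt] at this
      have h3 : ((t'⁻¹ * (r' * t' * ⟨u, hue huz⟩ * (r' * t')⁻¹) * t' : W) : G) ∈ zpowers e := this
      convert h3 using 1
      simp [mul_assoc]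
  -- it is `e`
  set q := QuotientGroup.mk' (Cfsg.pPrimeCore p H) with hq
  have hgH : g ∈ H := rp_le H hg
  have hq1 : ∀ {x : G} (hx : x ∈ rp p H), q ⟨x, rp_le H hx⟩ = 1 := fun hx =>
    (mem_rp_iff (rp_le H hx)).1 hx
  have huH : u ∈ H := (zpowers_le.2 hu) huz
  have hvH : v ∈ H := (zpowers_le.2 hu) hvz
  have hqu : q ⟨a * y, hu⟩ = q ⟨e, heH⟩ := by
    rw [show (⟨e, heH⟩ : H) = ⟨a * y, hu⟩ * ⟨(a * y)⁻¹ * e, rp_le H hk⟩ from Subtype.ext (mul_inv_cancel_left (a * y) e).symm,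
      map_mul, hq1 hk, mul_one]
  have hv1 : q ⟨v, hvH⟩ = 1 := by
    refine eq_one_of_pow (p := p) (k := 1) ?_ (hvo.coprime_dvd_left ?_)
    · obtain ⟨m, hm⟩ := mem_zpowers_iff.1 hvz
      rw [pow_one, show (⟨v, hvH⟩ : H) = ⟨a * y, hu⟩ ^ m from Subtype.ext (by simp [hm]), map_zpow,
        hqu, ← zpow_natCast, ← zpow_mul, mul_comm, zpow_mul, zpow_natCast, ← map_pow,
        show (⟨e, heH⟩ : H) ^ p = 1 from Subtype.ext heE.1, map_one, one_zpow]
    · have := orderOf_map_dvd q (⟨v, hvH⟩ : H)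
      rwa [Subgroup.orderOf_mk] at this
  have hgu : g * u * g⁻¹ = e := by
    have hgeH : g * u * g⁻¹ ∈ H := (zpowers_le.2 heH) hge
    have h1 : q ⟨g * u * g⁻¹, hgeH⟩ = q ⟨e, heH⟩ := by
      rw [show (⟨g * u * g⁻¹, hgeH⟩ : H) = ⟨g, hgH⟩ * ⟨u, huH⟩ * ⟨g, hgH⟩⁻¹ from rfl, map_mul,
        map_mul, map_inv, hq1 hg, inv_one, one_mul, mul_one, ← hqu,
        show (⟨a * y, hu⟩ : H) = ⟨u, huH⟩ * ⟨v, hvH⟩ from Subtype.ext huv, map_mul, hv1, mul_one]
    refine (inv_mul_eq_one.1 (?_ : e⁻¹ * (g * u * g⁻¹) = 1)).symm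
    obtain ⟨j, hj⟩ := hep ⟨_, mul_mem (inv_mem (mem_zpowers e)) hge⟩
    refine eq_one_of_pow (congrArg Subtype.val hj) (coprime_orderOf_rp (H := H) ?_)
    rw [mem_rp_iff (H.mul_mem (H.inv_mem heH) hgeH)]
    show q (⟨e, heH⟩⁻¹ * ⟨g * u * g⁻¹, hgeH⟩) = 1
    rw [map_mul, map_inv, h1, inv_mul_cancel]
  refine ⟨e, g * v * g⁻¹, g, heE, he1, h.inf_centralizer_le ha hy hd hz rfl he1 ⟨?_, ?_⟩, ?_⟩
  · have hv' : v ∈ rp p H := (mem_rp_iff hvH).2 hv1
    exact (rp p H).mul_mem ((rp p H).mul_mem hg hv') ((rp p H).inv_mem hg)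
  · refine mem_centralizer_iff.2 fun w hw => ?_
    rw [Set.mem_singleton_iff.1 hw]
    show e * (g * v * g⁻¹) = g * v * g⁻¹ * e
    rw [← hgu]
    obtain ⟨i, hi⟩ := mem_zpowers_iff.1 huz
    obtain ⟨j, hj⟩ := mem_zpowers_iff.1 hvz
    have hcomm : Commute u v := by rw [← hi, ← hj]; exact Commute.zpow_zpow (Commute.refl _) i j
    exact (hcomm.map (MulAut.conj g).toMonoidHom).eq
  · rw [huv, ← hgu]; group

/-- For a fixed `a`, two powers of one conjugate cannot both give regular products. -/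
theorem eq_of_not_dvd {a y : G} {i j : ℕ} (ha : Elt S a) (hy : Elt S y) (hi : ¬ p ∣ i)
    (hj : ¬ p ∣ j) (h1 : ¬ p ∣ orderOf (a * y ^ i)) (h2 : ¬ p ∣ orderOf (a * y ^ j))
    (hy1 : y ≠ 1) : i ≡ j [MOD p] := by
  obtain ⟨d, hd, hz⟩ := h.exists_partner ha hy
  set z := d * y * d⁻¹ with hzdef
  have hcl : ∀ {k : ℕ}, ¬ p ∣ k → ¬ p ∣ orderOf (a * y ^ k) → a * z ^ k = 1 := by
    intro k hk hreg
    have hH : closure ({a, y ^ k} : Set G) = closure ({a, y} : Set G) := by
      refine le_antisymm ((closure_le _).2 (Set.insert_subset (subset_closure (by simp))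
        (Set.singleton_subset_iff.2 (pow_mem (subset_closure (by simp)) k)))) ?_
      refine (closure_le _).2 (Set.insert_subset (subset_closure (by simp))
        (Set.singleton_subset_iff.2 ?_))
      have hord : (orderOf y).Coprime k := by
        rw [orderOf_eq_prime hy.1 hy1]
        exact (Fact.out : p.Prime).coprime_iff_not_dvd.2 hk
      obtain ⟨m, hm⟩ := exists_pow_eq_self_of_coprime (x := y) hord.symm
      have : (y ^ k) ^ m ∈ closure ({a, y ^ k} : Set G) := pow_mem (subset_closure (by simp)) m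
      rwa [hm] at this
    have hd' : d ∈ rp p (closure ({a, y ^ k} : Set G)) := by rw [hH]; exact hd
    have hz' : a * (d * y ^ k * d⁻¹) = (d * y ^ k * d⁻¹) * a := by
      rw [← conj_pow]; exact (Commute.pow_right hz k).eq
    have := (h.not_dvd_iff ha (h.elt_pow hy k) hd' hz').1 hreg
    rwa [← conj_pow] at this
  have h3 : z ^ i = z ^ j := mul_left_cancel ((hcl hi h1).trans (hcl hj h2).symm)
  have hoz : orderOf z = p := orderOf_eq_prime (h.elt_conj hy d).1 fun hz1 => by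
    rw [hzdef, mul_inv_eq_one, mul_eq_left] at hz1; exact hy1 hz1
  rwa [pow_eq_pow_iff_modEq, hoz] at h3

end Hyp

end Cfsg.Agent.TwoGen
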