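import Cfsg.Agent.Lib.QdCrit.Stable
import Cfsg.Agent.Lib.Qd.Basic
import Cfsg.Agent.Lib.PStab.ZJControl
import Cfsg.Agent.Lib.OddStable.Solvable
import Cfsg.Agent.Lib.Coprime.Basic

/-!
Stability for `p ≥ 5` in solvable and in minimal simple groups.

* `not_isSolvable_qd`
* `isNormalizerPStable_of_solvable`, `isNormalizerPStable_of_minimal`
* `mk_mem_pCore_of_abelian_normal` : in a solvable group the members of an abelian normal subgroup
  of a Sylow `p`-subgroup lie in `O_p` modulo `O_p'`
-/

set_option autoImplicit false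
set_option linter.unusedSectionVars false

namespace Cfsg.Agent.TwoGen

open Subgroup

universe u

variable {p : ℕ} [Fact p.Prime]

theorem sgn_ne_one' (hp : 3 < p) : Qd.sgn p ≠ 1 := Qd.sgn_ne_one (p := p) (by omega)

theorem not_isSolvable_qd (hp : 3 < p) : ¬ Group.IsSolvable ↥(Cfsg.qd p) := fun hs => by
  haveI : Nontrivial ↥(Cfsg.qd p) := nontrivial_of_ne _ _ (sgn_ne_one' hp)
  exact (Group.IsSolvable.commutator_lt_top_of_nontrivial ↥(Cfsg.qd p)).ne (Qd.commutator_eq_top p hp)

variable {G : Type u} [Group G] [Finite G]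

theorem isNormalizerPStable_of_solvable (hp : 3 < p) [Group.IsSolvable G] :
    Cfsg.IsNormalizerPStable p G := by
  refine QdCrit.isNormalizerPStable_of_not_involves (by omega) ?_
  rintro ⟨K, R, hR, ⟨e⟩⟩
  exact not_isSolvable_qd hp
    (Group.isSolvable_of_surjective (f := e.toMonoidHom.comp (QuotientGroup.mk' _))
      (e.surjective.comp (QuotientGroup.mk'_surjective _)))

theorem isNormalizerPStable_of_minimal (hp : 3 < p) [IsSimpleGroup G]
    (hmin : ∀ H : Subgroup G, H ≠ ⊤ → Group.IsSolvable H) : Cfsg.IsNormalizerPStable p G := by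
  refine QdCrit.isNormalizerPStable_of_not_involves (by omega) ?_
  intro hinv
  obtain ⟨K, f, hf⟩ := Involves.exists_hom_of_involves hinv
  by_cases hK : K = ⊤
  · subst hK
    set φ : G →* ↥(Cfsg.qd p) := f.comp (Subgroup.topEquiv : (⊤ : Subgroup G) ≃* G).symm.toMonoidHom
    have hφ : Function.Surjective φ := hf.comp (MulEquiv.surjective _)
    rcases IsSimpleGroup.eq_bot_or_eq_top_of_normal φ.ker inferInstance with h | h
    · have hn : ((Qd.transE p).comap φ).Normal := (inferInstance : (Qd.transE p).Normal).comap φ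
      rcases IsSimpleGroup.eq_bot_or_eq_top_of_normal _ hn with h' | h'
      · obtain ⟨g, hg⟩ := hφ (Qd.tr p 1 0)
        have : g ∈ (Qd.transE p).comap φ := by rw [mem_comap, hg]; exact Qd.tr_mem p 1 0
        rw [h', mem_bot] at this
        rw [this, map_one, ← Qd.tr_zero p, Qd.tr, Qd.tr, Qd.el_eq_iff] at hg
        simp at hg
      · obtain ⟨g, hg⟩ := hφ (Qd.up p 1)
        have : g ∈ (Qd.transE p).comap φ := by rw [h']; exact mem_top g
        rw [mem_comap, hg, Qd.up_mem_transE_iff] at this
        exact one_ne_zero this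
    · obtain ⟨g, hg⟩ := hφ (Qd.sgn p)
      have : g ∈ φ.ker := by rw [h]; exact mem_top g
      rw [MonoidHom.mem_ker, hg] at this
      exact sgn_ne_one' hp this
  · haveI := hmin K hK
    exact not_isSolvable_qd hp (Group.isSolvable_of_surjective (f := f) hf)

/-- In a solvable group with `O_p' = 1`, `p ≥ 5`, an abelian normal subgroup of a Sylow `p`-subgroup
lies in `O_p`. -/
theorem le_pCore_of_abelian_normal (hp : 3 < p) [Group.IsSolvable G]
    (hO : Cfsg.pPrimeCore p G = ⊥) {T B : Subgroup G} (hOT : Cfsg.pCore p G ≤ T)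
    (hB : IsMulCommutative B) (hTB : T ≤ normalizer (B : Set G)) : B ≤ Cfsg.pCore p G := by
  intro a ha
  set Q := Cfsg.pCore p G with hQ
  haveI : Q.Normal := Cores.pCore_normal p G
  refine OddStable.comap_pCore_quotient_centralizer_le (P := Q) hO inf_le_left ?_
  set C := centralizer (Q : Set G) with hC
  set N := normalizer (Q : Set G) with hN
  have hNtop : N = ⊤ := normalizer_eq_top_iff.2 inferInstance
  have haN : a ∈ N := by rw [hNtop]; exact mem_top a
  have hq : ⁅⁅Q, zpowers a⁆, zpowers a⁆ = ⊥ := by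
    rw [commutator_eq_bot_iff_le_centralizer]
    have hle : ⁅Q, zpowers a⁆ ≤ B := (commutator_mono hOT (zpowers_le.2 ha)).trans
      (le_normalizer_iff_commutator_le_right.1 hTB)
    refine hle.trans ?_
    intro b hb
    refine mem_centralizer_iff.2 fun c hc => ?_
    exact congrArg Subtype.val (hB.is_comm.comm ⟨c, (zpowers_le.2 ha) hc⟩ ⟨b, hb⟩)
  have h := isNormalizerPStable_of_solvable (p := p) (G := G) hp Q (Cores.isPGroup_pCore p G) a haN hq
  haveI : ((centralizer (Q : Set G)).subgroupOf N).Normal := inferInstance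
  let e : N →* G ⧸ C := (QuotientGroup.mk' C).comp N.subtype
  have he : Function.Surjective e := fun x => by
    obtain ⟨g, rfl⟩ := QuotientGroup.mk'_surjective C x
    exact ⟨⟨g, by rw [hNtop]; exact mem_top g⟩, rfl⟩
  let ē : N ⧸ C.subgroupOf N →* G ⧸ C := QuotientGroup.lift _ e fun x hx => by
    rw [MonoidHom.mem_ker]
    exact (QuotientGroup.eq_one_iff _).2 hx
  have hē : Function.Surjective ē := fun x => by
    obtain ⟨y, rfl⟩ := he x
    exact ⟨QuotientGroup.mk y, rfl⟩
  exact mem_comap.2 (Cores.map_pCore_le ē hē p (mem_map_of_mem ē h))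

end Cfsg.Agent.TwoGen
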